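import Cfsg.Agent.H115.Tits.BPsl
import Cfsg.Agent.H202.TwoTransAltC
import Cfsg.Agent.H508.AltFive
import Cfsg.Agent.H942.Imprim
import Cfsg.Agent.H363.TwoPrimes
import Cfsg.Agent.H412.AltIndex

/-!
# S3414, case (B), `E = 1` : the alternating groups (helper115)
-/

set_option autoImplicit false
set_option linter.unusedSectionVars false

namespace Cfsg.Agent.H115.Tits

open Cfsg.Agent.H873.Tits Cfsg.Agent.H506.Tits Subgroup MulAction

universe u v

/-! ### arithmetic -/

theorem exists_prime_mid3 {n : ℕ} (hn : 8 ≤ n) : ∃ r : ℕ, r.Prime ∧ n < 2 * r ∧ r + 3 ≤ n := by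
  rcases Nat.lt_or_ge n 12 with h | h
  · have : n = 8 ∨ n = 9 ∨ n = 10 ∨ n = 11 := by omega
    rcases this with rfl | rfl | rfl | rfl
    · exact ⟨5, by norm_num, by norm_num, by norm_num⟩
    · exact ⟨5, by norm_num, by norm_num, by norm_num⟩
    · exact ⟨7, by norm_num, by norm_num, by norm_num⟩
    · exact ⟨7, by norm_num, by norm_num, by norm_num⟩
  · obtain ⟨r, s, hr, hs, h1, h2, h3⟩ := Cfsg.Agent.H363.TwoPrimes.exists_two_primes (n / 2) (by omega)
    have hs2 : s % 2 = 1 := hs.eq_two_or_odd.resolve_left (by omega)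
    have hr2 : r % 2 = 1 := hr.eq_two_or_odd.resolve_left (by omega)
    exact ⟨r, hr, by omega, by omega⟩

theorem sq_not_dvd_factorial {r : ℕ} (hr : r.Prime) : ∀ {n : ℕ}, n < 2 * r → ¬ r ^ 2 ∣ n.factorial := by
  intro n
  induction n with
  | zero =>
    intro _ h
    rw [Nat.factorial_zero, Nat.dvd_one] at h
    have := hr.two_le
    nlinarith
  | succ n ih =>
    intro hn h
    rw [Nat.factorial_succ] at h
    by_cases h1 : r ∣ n + 1
    · obtain ⟨k, hk⟩ := h1
      have h2 : k = 1 := by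
        have h3 : k ≠ 0 := by
          rintro rfl
          omega
        have h4 : k < 2 := by
          by_contra h5
          have : r * 2 ≤ r * k := Nat.mul_le_mul_left r (by omega)
          omega
        omega
      rw [h2, mul_one] at hk
      rw [hk, pow_two] at h
      have h3 : r ∣ n.factorial := Nat.dvd_of_mul_dvd_mul_left hr.pos h
      rw [hr.dvd_factorial] at h3
      omega
    · have h2 : (r ^ 2).Coprime (n + 1) := Nat.Coprime.pow_left 2 ((Nat.Prime.coprime_iff_not_dvd hr).2 h1)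
      exact ih (by omega) (h2.dvd_of_dvd_mul_left h)

theorem alt_le_of {Ω : Type v} [Fintype Ω] [DecidableEq Ω] {L : Subgroup (Equiv.Perm Ω)} (h : AltLe L) :
    alternatingGroup Ω ≤ L := by
  apply Cfsg.Agent.H942.alt_le_of_T
  intro x y z hxy hxz hyz
  refine ⟨hxy, hxz, hyz, ?_⟩
  have := h x y z hxy hyz hxz
  unfold Cfsg.Agent.H942.c3
  convert this

theorem two_mul_card_alt {Ω : Type v} [Fintype Ω] [DecidableEq Ω] (h : 2 ≤ Fintype.card Ω) :
    2 * Nat.card (alternatingGroup Ω) = (Fintype.card Ω).factorial := by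
  have : Nontrivial Ω := Fintype.one_lt_card_iff_nontrivial.1 (by omega)
  rw [two_mul_nat_card_alternatingGroup, Nat.card_perm, Nat.card_eq_fintype_card]

theorem dvd_card_alt {Ω : Type v} [Fintype Ω] [DecidableEq Ω] {r : ℕ} (hr : r.Prime) (h3 : 3 ≤ r)
    (h : r ≤ Fintype.card Ω) : r ∣ Nat.card (alternatingGroup Ω) := by
  have h1 : r ∣ 2 * Nat.card (alternatingGroup Ω) := by
    rw [two_mul_card_alt (by omega)]
    exact (hr.dvd_factorial).2 h
  rcases hr.dvd_mul.1 h1 with h2 | h2
  · have := Nat.le_of_dvd (by norm_num) h2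
    omega
  · exact h2

/-! ### the order of the two point stabilizer -/

variable {G : Type u} [Group G] [Finite G] {V : Type v} [Finite V] [MulAction G V] {P : Pol G V} {b : Bool}

theorem T2_dvd_factorial {v x z : V} (hx : P.adj v x) (hz : P.adj v z) (hxz : x ≠ z) :
    P.T2 v x z ∣ (P.q (P.tp v) - 1).factorial := by
  classical
  have hfin := Cfsg.Agent.H263.TW.finite_nb P v
  let x' : {w : V // P.adj v w} := ⟨x, hx⟩
  let z' : {w : V // P.adj v w} := ⟨z, hz⟩
  have h1 : Nat.card (fixingSubgroup (Equiv.Perm {w : V // P.adj v w}) ({x', z'} : Set {w : V // P.adj v w})) =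
      (P.q (P.tp v) - 1).factorial := by
    have := Fintype.ofFinite {w : V // P.adj v w}
    rw [Cfsg.Agent.S0713.card_fixingSubgroup_perm, P.card_nb, Set.ncard_pair (fun h => hxz (congrArg Subtype.val h))]
    rfl
  rw [← h1]
  apply Subgroup.card_dvd_of_le
  intro σ hσ
  obtain ⟨g, hg, hg', rfl⟩ := mem_img.1 hσ
  rw [mem_fixingSubgroup_iff]
  rintro w (rfl | rfl)
  · exact Subtype.ext hg.1
  · exact Subtype.ext hg.2

/-- a prime `r` with `n/2 < r ≤ n - 3` divides the index `i_y` for `L y ≥ Alt_n` -/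
theorem dvd_idx (F : Facts P) (hB : CaseB P b) {y y' : V} (hy : P.tp y = b) (hopp : P.Opp y y') (hna : ¬ Aff (P.L y))
    (hA : AltLe (P.L y)) {r : ℕ} (hr : r.Prime) (h1 : P.q b + 1 < 2 * r) (h2 : r + 3 ≤ P.q b + 1) :
    r ∣ P.idx y y' := by
  classical
  have hfin := Cfsg.Agent.H263.TW.finite_nb P y
  have := Fintype.ofFinite {w : V // P.adj y w}
  have hcard : Fintype.card {w : V // P.adj y w} = P.q b + 1 := by rw [← Nat.card_eq_fintype_card, P.card_nb, hy]
  have hr2 := hr.two_le
  have hAle := alt_le_of hA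
  -- `r ∤ |L'|`
  have h3 : ¬ r ∣ Nat.card (P.L' y y') := by
    intro h3
    have h4 : IsPreprimitive (P.L' y y') {w : V // P.adj y w} := by
      apply isPreprimitive_of_is_two_pretransitive
      rw [is_two_pretransitive_iff]
      intro a b c d hab hcd
      obtain ⟨g, hg, h1, h2⟩ := twoTr_L' F hopp a b c d hab hcd
      exact ⟨⟨g, hg⟩, h1, h2⟩
    have h5 := Cfsg.Agent.H202.TwoTransAlt.alt_le_of_dvd hr (by rw [hcard]; exact h1) (by rw [hcard]; omega)
      (by rw [hcard]; exact h2) (P.L' y y') h4 h3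
    refine kill_kf F hB hy hopp hna _ h5 ?_ ?_
    · have : (alternatingGroup {w : V // P.adj y w}).Normal := inferInstance
      exact this.subgroupOf _
    · intro h6
      have h7 := dvd_card_alt (Ω := {w : V // P.adj y w}) hr (by omega) (by rw [hcard]; omega)
      rw [h6, Subgroup.card_bot, Nat.dvd_one] at h7
      omega
  -- `r ∣ |L|`
  have h4 : r ∣ Nat.card (P.L y) :=
    (dvd_card_alt (Ω := {w : V // P.adj y w}) hr (by omega) (by rw [hcard]; omega)).trans (Subgroup.card_dvd_of_le hAle)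
  have h5 : Nat.card (P.L' y y') * P.idx y y' = Nat.card (P.L y) := by
    have h6 := Subgroup.card_mul_index ((P.L' y y').subgroupOf (P.L y))
    rw [Nat.card_congr (Subgroup.subgroupOfEquivOfLe (L'_le P y y')).toEquiv] at h6
    exact h6
  rw [← h5] at h4
  exact (hr.dvd_mul.1 h4).resolve_left h3

end Cfsg.Agent.H115.Tits
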