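import Cfsg.Agent.H873.Tits.Stmts

/-!
# S3414, case (B), `L y` not affine: statements of the pieces (helper115, sub-lead)

`y` is a vertex of the type of case (B), `x ≠ z` are neighbours of `y`, `y'` is opposite `y`;
`t = q (tp y)`, `s = q (! tp y)`, `m = n / 2`.
-/

set_option autoImplicit false

namespace Cfsg.Agent.H115.Tits

open Cfsg.Agent.H873.Tits

universe u v

/-- the common hypotheses of the non-affine part of case (B) -/
structure CB {G : Type u} [Group G] {V : Type v} [MulAction G V] (P : Pol G V) (x y z y' : V) : Prop where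
  F : Facts P
  N : Num P
  B : CaseB P (P.tp y)
  hx : P.adj y x
  hz : P.adj y z
  xz : x ≠ z
  opp : P.Opp y y'
  /-- `K x` is not trivial on the neighbours of `y` -/
  ne : ¬ P.K x ≤ P.K y
  na : ¬ Aff (P.L y)

/-- `L` contains all 3-cycles -/
def AltLe {Ω : Type v} (L : Subgroup (Equiv.Perm Ω)) : Prop := by
  classical
  exact ∀ a b c : Ω, a ≠ b → b ≠ c → a ≠ c → Equiv.swap a b * Equiv.swap b c ∈ L

/-- the numerical hypothesis of the chain lemma: `(m-1) v_r(T_y) < v_r(t) + (m-1) v_r(s)` -/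
def ChainNum {G : Type u} [Group G] {V : Type v} [MulAction G V] (P : Pol G V) (x y z : V) (r : ℕ) : Prop :=
  r.Prime ∧ (P.n / 2 - 1) * (P.T2 y x z).factorization r <
    (P.q (P.tp y)).factorization r + (P.n / 2 - 1) * (P.q (!P.tp y)).factorization r

/-- CHAIN (helper115): a subnormal semiregular subgroup of the point stabilizer of `L y` of order divisible by `r` -/
def StChain : Prop := ∀ {G : Type u} [Group G] [Finite G] {V : Type v} [Finite V] [MulAction G V] (P : Pol G V)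
  {x y z y' : V} (C : CB P x y z y') {r : ℕ}, ChainNum P x y z r →
  ∃ M ≤ Stb (P.L y) ⟨x, C.hx⟩, (M.subgroupOf (Stb (P.L y) ⟨x, C.hx⟩)).IsSubnormal ∧ r ∣ Nat.card ↥M ∧
    ∀ g ∈ M, ∀ w : {w : V // P.adj y w}, w ≠ ⟨x, C.hx⟩ → g w = w → g = 1

/-- KILL-FROBENIUS (helper115): a 2-transitive group with a non-trivial normal subgroup all of whose two point
stabilizers are trivial is affine (Frobenius kernel) -/
def StKF : Prop := ∀ {Ω : Type v} [Finite Ω] (L X : Subgroup (Equiv.Perm Ω)), TwoTr L → 3 ≤ Nat.card Ω →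
  X ≤ L → (X.subgroupOf L).Normal → X ≠ ⊥ → (∀ a b : Ω, a ≠ b → ∀ σ ∈ X, σ a = a → σ b = b → σ = 1) → Aff L

/-- UNI: from the chain lemma with `t` odd, `t < 60` or `t` a prime power: the semiregular subnormal subgroup `M`
(`|M|` divides `t`) is soluble, so `O_p ≠ 1` for the point stabilizer; StTab1a; `t = p ^ k`: all primes of the index
`idx` are `p` (then `s ∣ idx` gives `Powers`) or StTab2 and kill and StKF. -/
def StUni : Prop := ∀ {G : Type u} [Group G] [Finite G] {V : Type v} [Finite V] [MulAction G V] (P : Pol G V)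
  {x y z y' : V} (_ : CB P x y z y') {r : ℕ}, ChainNum P x y z r →
  (¬ 2 ∣ P.q (P.tp y) ∨ P.q (P.tp y) < 60 ∨ ∃ p k : ℕ, p.Prime ∧ P.q (P.tp y) = p ^ k) →
  (∃ p, Powers P p) ∨ (∃ p d f, PSLType (P.L y) p d f) ∨
    (P.q (P.tp y) = 4 ∧ Nat.card ↥(P.L y) = 120 ∧ Nat.card ↥(P.L' y y') = 20)

/-- ALT: `L y` contains the alternating group, `t ≥ 5` -/
def StAlt : Prop := ∀ {G : Type u} [Group G] [Finite G] {V : Type v} [Finite V] [MulAction G V] (P : Pol G V)
  {x y z y' : V} (_ : CB P x y z y'), 5 ≤ P.q (P.tp y) → AltLe (P.L y) → False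

/-- T4: `L y = A_5` or `S_5` -/
def StT4 : Prop := ∀ {G : Type u} [Group G] [Finite G] {V : Type v} [Finite V] [MulAction G V] (P : Pol G V)
  {x y z y' : V} (_ : CB P x y z y'), P.q (P.tp y) = 4 → (60 ∣ Nat.card ↥(P.L y)) → Powers P 2

/-- PSL-SEMI: a subnormal semiregular subgroup of the point stabilizer in `PSL_d(q)`, `d ≥ 3`, is a `p`-group
(it meets the group `E` of elations with the given centre (axis) trivially, so its `p'`-elements centralize `E`) -/
def StPslSemi : Prop := ∀ {Ω : Type v} [Finite Ω] (L : Subgroup (Equiv.Perm Ω)) (p d f : ℕ), TwoTr L → PSLType L p d f →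
  ∀ (a : Ω) (M : Subgroup (Equiv.Perm Ω)), M ≤ Stb L a → (M.subgroupOf (Stb L a)).IsSubnormal →
  (∀ g ∈ M, ∀ w : Ω, w ≠ a → g w = w → g = 1) → IsPGroup p ↥M

/-- PSL-NUM: there is a prime `r ≠ p`, `r ∣ t`, not dividing the order of the two point stabilizer, except for
`PSL_3(p)`, `p + 1 = 2 ^ k`, `PSL_3(8)` and `PSL_7(2)` -/
def StPslNum : Prop := ∀ {Ω : Type v} [Finite Ω] (L : Subgroup (Equiv.Perm Ω)) (p d f : ℕ) (a b : Ω), TwoTr L → a ≠ b →
  PSLType L p d f →
  (∃ r : ℕ, r.Prime ∧ r ≠ p ∧ r ∣ Nat.card Ω - 1 ∧ ¬ r ∣ Nat.card ↥(Stb L a ⊓ Stb L b)) ∨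
    (d = 3 ∧ f = 1 ∧ ∃ k, p + 1 = 2 ^ k) ∨ (d = 3 ∧ f = 3 ∧ p = 2) ∨ (d = 7 ∧ f = 1 ∧ p = 2)

/-- PSL-SUB: in the exceptional cases of PSL-NUM (more generally for `d = 3`) the 2-transitive subgroups contain the
socle -/
def StPslSub : Prop := ∀ {Ω : Type v} [Finite Ω] (L L' : Subgroup (Equiv.Perm Ω)) (p d f : ℕ), TwoTr L → TwoTr L' → L' ≤ L →
  PSLType L p d f → (d = 3 ∨ (d = 7 ∧ f = 1 ∧ p = 2)) →
  ∃ X : Subgroup (Equiv.Perm Ω), X ≠ ⊥ ∧ X ≤ L' ∧ (X.subgroupOf L).Normal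

/-- PSL: `L y` is of type `PSL_d(q)`, `d ≥ 3` (assembled by helper115 from StChain, StPslSemi, StPslNum, StPslSub, StKF) -/
def StPslB : Prop := ∀ {G : Type u} [Group G] [Finite G] {V : Type v} [Finite V] [MulAction G V] (P : Pol G V)
  {x y z y' : V} (_ : CB P x y z y') (p d f : ℕ), PSLType (P.L y) p d f → False

/-- ROWS: the table of the non-affine 2-transitive groups (`H384.TwoTransMain.main`, socle and degree; orders: `|L|`
divides `|T| |Out T|`) -/
def StRowsB : Prop := ∀ {G : Type u} [Group G] [Finite G] {V : Type v} [Finite V] [MulAction G V] (P : Pol G V)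
  {x y z y' : V} (_ : CB P x y z y'),
  AltLe (P.L y) ∨ (∃ p d f, PSLType (P.L y) p d f) ∨ (∃ p, Powers P p) ∨
    ((∃ r, ChainNum P x y z r) ∧ (¬ 2 ∣ P.q (P.tp y) ∨ P.q (P.tp y) < 60 ∨ ∃ p k : ℕ, p.Prime ∧ P.q (P.tp y) = p ^ k))

/-- the non-affine part of case (B) -/
def StBNA : Prop := ∀ {G : Type u} [Group G] [Finite G] {V : Type v} [Finite V] [MulAction G V] (P : Pol G V)
  {x y z y' : V} (_ : CB P x y z y'), ∃ p, Powers P p

/-- the affine part of case (B) (helper263) -/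
def StBAff : Prop := ∀ {G : Type u} [Group G] [Finite G] {V : Type v} [Finite V] [MulAction G V] (P : Pol G V), Facts P →
  Num P → NoOdd G → ∀ {x y : V}, CaseB P (P.tp y) → P.adj y x → ¬ P.K x ≤ P.K y → Aff (P.L y) → ∃ p, Powers P p

/-- the case `K x = 1` (helper115) -/
def StBOne : Prop := ∀ {G : Type u} [Group G] [Finite G] {V : Type v} [Finite V] [MulAction G V] (P : Pol G V), Facts P →
  Num P → ∀ {x y : V}, CaseB P (P.tp y) → P.adj y x → P.K x ≤ P.K y → False

end Cfsg.Agent.H115.Tits
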