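import Cfsg.Agent.H873.Tits.Facts

/-!
# S3414, case (B): the kill lemma (helper115)

* `no_sharp` : a normal subgroup `W` of `S y` with `W_x ≤ K x` for the neighbours `x` of `y` lies in `K y`;
* `kill_core`, `kill` : in case (B) no nontrivial element of a normal subgroup `X ≤ L' y` of `L y` fixes two neighbours
  of `y`.
-/

set_option autoImplicit false
set_option linter.unusedSectionVars false

namespace Cfsg.Agent.H115.Tits

open Cfsg.Agent.H873.Tits Subgroup MulAction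

universe u v

variable {G : Type u} [Group G] {V : Type v} [MulAction G V] {P : Pol G V}

/-! ## basic facts -/

theorem K_conj (P : Pol G V) (g : G) {v : V} {k : G} (hk : k ∈ P.K v) : g * k * g⁻¹ ∈ P.K (g • v) := by
  refine ⟨by rw [mul_smul, mul_smul, inv_smul_smul, hk.1], fun w hw => ?_⟩
  have h1 : P.adj v (g⁻¹ • w) := by
    rw [← P.adj_smul_iff g, smul_inv_smul]
    exact hw
  rw [mul_smul, mul_smul, hk.2 _ h1, smul_inv_smul]

theorem K_conj' (P : Pol G V) {g : G} {v : V} (hg : g • v = v) {k : G} (hk : k ∈ P.K v) : g * k * g⁻¹ ∈ P.K v := by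
  have := K_conj P g hk
  rwa [hg] at this

theorem inv_fix {g : G} {v : V} (hg : g • v = v) : g⁻¹ • v = v := inv_smul_eq_iff.2 hg.symm

theorem smul_isPath (P : Pol G V) (g : G) {k : ℕ} {p : ℕ → V} (h : IsPath P.adj k p) :
    IsPath P.adj k fun i => g • p i :=
  ⟨fun i hi => P.smul_adj g (h.1 i hi), fun i hi h' => h.2 i hi ((smul_left_cancel_iff g).1 h')⟩

theorem opp_smul (P : Pol G V) (g : G) {v w : V} (h : P.Opp v w) : P.Opp (g • v) (g • w) := by
  obtain ⟨p, hp, rfl, rfl⟩ := h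
  exact ⟨_, smul_isPath P g hp, rfl, rfl⟩

theorem adj_smul_of_fix (P : Pol G V) {g : G} {v w : V} (hg : g • v = v) (h : P.adj v w) : P.adj v (g • w) := by
  have := P.smul_adj g h
  rwa [hg] at this

/-- `S y` is transitive on the vertices opposite `y` -/
theorem exists_opp_map (P : Pol G V) {y a b : V} (ha : P.Opp y a) (hb : P.Opp y b) : ∃ g : G, g • y = y ∧ g • a = b := by
  obtain ⟨p, hp, h1, rfl⟩ := ha
  obtain ⟨p', hp', h1', rfl⟩ := hb
  obtain ⟨g, hg⟩ := P.trans (Nat.le_succ _) hp hp' (by rw [h1, h1'])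
  refine ⟨g, ?_, hg _ le_rfl⟩
  have := hg 0 (Nat.zero_le _)
  rwa [h1, h1'] at this

/-- there are two neighbours different from a given vertex -/
theorem exists_two (P : Pol G V) (z y : V) : ∃ u u', P.adj z u ∧ P.adj z u' ∧ u ≠ y ∧ u' ≠ y ∧ u ≠ u' := by
  by_contra hno
  push Not at hno
  have h3 : 3 ≤ Nat.card {w : V // P.adj z w} := by
    rw [P.card_nb]
    have := P.two_le (P.tp z)
    omega
  have hf : Finite {w : V // P.adj z w} := Nat.finite_of_card_ne_zero (by omega)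
  have := Fintype.ofFinite {w : V // P.adj z w}
  rw [Nat.card_eq_fintype_card] at h3
  obtain ⟨a, b, c, hab, hac, hbc⟩ := Fintype.two_lt_card_iff.1 (lt_of_lt_of_le (by norm_num) h3)
  have h4 : ∀ {p q : {w : V // P.adj z w}}, p ≠ q → (p : V) ≠ q := fun h h' => h (Subtype.ext h')
  by_cases ha : (a : V) = y
  · exact h4 hbc (hno b c b.2 c.2 (fun h => h4 hab (ha.trans h.symm)) (fun h => h4 hac (ha.trans h.symm)))
  · by_cases hb : (b : V) = y
    · exact h4 hac (hno a c a.2 c.2 ha (fun h => h4 hbc (hb.trans h.symm)))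
    · exact h4 hab (hno a b a.2 b.2 ha hb)

/-- the middle vertex of a path of length two is unique -/
theorem mid_unique (P : Pol G V) {y x x' w : V} (h1 : P.adj y x) (h2 : P.adj x w) (hwy : w ≠ y) (h1' : P.adj y x')
    (h2' : P.adj x' w) : x = x' := by
  have hp : ∀ {x : V}, P.adj y x → P.adj x w →
      IsPath P.adj 2 (fun i => if i = 0 then y else if i = 1 then x else w) := by
    intro x h1 h2
    refine ⟨fun i hi => ?_, fun i hi => ?_⟩
    · have : i = 0 ∨ i = 1 := by omega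
      rcases this with rfl | rfl
      · simpa using h1
      · simpa using h2
    · have : i = 0 := by omega
      subst this
      simpa using hwy
  have hn := P.hn
  have := (P.path_unique (hp h1 h2) (hp h1' h2') (by simp) (by simp) (by omega)).2 1 (by norm_num)
  simpa using this

/-- an element fixing `y` and a vertex at distance two fixes the middle vertex -/
theorem mid_fix (P : Pol G V) {y x w : V} (h1 : P.adj y x) (h2 : P.adj x w) (hwy : w ≠ y) {g : G} (hy : g • y = y)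
    (hw : g • w = w) : g • x = x := by
  refine (mid_unique P h1 h2 hwy ?_ ?_).symm
  · exact adj_smul_of_fix P hy h1
  · have := P.smul_adj g h2
    rwa [hw] at this

theorem Thru_adj {y x w y' : V} (hn : 2 ≤ P.n) (h : P.Thru y x w y') : P.adj x w ∧ w ≠ y := by
  obtain ⟨p, hp, rfl, rfl, rfl, -⟩ := h
  exact ⟨hp.1 1 (by omega), hp.2 0 (by omega)⟩

theorem two_le_n (P : Pol G V) : 2 ≤ P.n := by
  have := P.hn
  omega

/-! ## sharply transitive normal subgroups -/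

/-- **no sharp normal subgroups** -/
theorem no_sharp (F : Facts P) {y : V} (W : Subgroup G) (hWS : W ≤ P.S y) (hn : ∀ g ∈ P.S y, ∀ a ∈ W, g * a * g⁻¹ ∈ W)
    (hK : ∀ x, P.adj y x → W ⊓ P.S x ≤ P.K x) : W ≤ P.K y := by
  intro h0 hh0
  by_contra hne
  have hy0 : h0 • y = y := hWS hh0
  obtain ⟨x, hyx, hx⟩ : ∃ x, P.adj y x ∧ h0 • x ≠ x := by
    by_contra hno
    push Not at hno
    exact hne ⟨hy0, hno⟩
  have hyz : P.adj y (h0 • x) := adj_smul_of_fix P hy0 hyx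
  obtain ⟨w, -, hxw, -, hwy, -⟩ := exists_two P x y
  have hzu : P.adj (h0 • x) (h0 • w) := P.smul_adj h0 hxw
  have huy : h0 • w ≠ y := by
    intro h
    exact hwy ((smul_left_cancel_iff h0).1 (h.trans hy0.symm))
  obtain ⟨u', hzu', hu'y, hu'⟩ : ∃ u', P.adj (h0 • x) u' ∧ u' ≠ y ∧ u' ≠ h0 • w := by
    obtain ⟨a, b, ha, hb, hay, hby, hab⟩ := exists_two P (h0 • x) y
    by_cases h : a = h0 • w
    · exact ⟨b, hb, hby, fun h' => hab (h.trans h'.symm)⟩
    · exact ⟨a, ha, hay, h⟩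
  obtain ⟨g, hg, hgw, hgu⟩ := F.pair_trans (P.symm hyx) (P.symm hyz) (Ne.symm hx) hxw hwy hzu huy hxw hwy hzu' hu'y
  have hgx : g • x = x := hg.1.1
  have hgy : g • y = y := hg.1.2
  have hgz : g • h0 • x = h0 • x := hg.2
  have h1 : h0⁻¹ * (g * h0 * g⁻¹) ∈ W := mul_mem (inv_mem hh0) (hn g hgy _ hh0)
  have h2 : (h0⁻¹ * (g * h0 * g⁻¹)) • x = x := by
    rw [mul_smul, mul_smul, mul_smul, inv_fix hgx, hgz, inv_smul_smul]
  have h3 := (hK x hyx ⟨h1, h2⟩).2 w hxw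
  rw [mul_smul, mul_smul, mul_smul, inv_fix hgw, hgu, inv_smul_eq_iff] at h3
  exact hu' h3

/-! ## case (B) -/

section CaseB

variable {b : Bool} {y : V}

/-- `E` does not depend on the neighbour -/
theorem E_le (hB : CaseB P b) (hy : P.tp y = b) {x z : V} (hx : P.adj y x) (hz : P.adj y z) :
    P.K x ⊓ P.K y ≤ P.K z ⊓ P.K y :=
  fun _ h => ⟨hB.ball hy (P.symm hx) (P.symm hz) h, h.2⟩

/-- `E` is normal in `S y` -/
theorem E_conj (hB : CaseB P b) (hy : P.tp y = b) {x : V} (hx : P.adj y x) {g : G} (hg : g • y = y) {k : G}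
    (hk : k ∈ P.K x ⊓ P.K y) : g * k * g⁻¹ ∈ P.K x ⊓ P.K y :=
  E_le hB hy (adj_smul_of_fix P hg hx) hx ⟨K_conj P g hk.1, K_conj' P hg hk.2⟩

/-- the first step of the kill lemma -/
theorem kill_step (F : Facts P) (hB : CaseB P b) (hy : P.tp y = b) {T : Subgroup G} (hTS : T ≤ P.S y)
    (hTn : ∀ g ∈ P.S y, ∀ a ∈ T, g * a * g⁻¹ ∈ T)
    (hTd : ∀ g ∈ T, ∀ y', P.Opp y y' → ∃ m ∈ T, m • y' = y' ∧ g * m⁻¹ ∈ P.K y)
    {x z w : V} (hx : P.adj y x) (hz : P.adj y z) (hxz : x ≠ z) (hw : P.adj x w) (hwy : w ≠ y) {g : G} (hg : g ∈ T)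
    (hgw : g • w = w) (hgz : g • z = z) : g ∈ P.K z := by
  obtain ⟨y', hopp, hthru⟩ := F.proj_opp hx hw hwy
  obtain ⟨u0, hu0⟩ := F.proj_exists hopp hz
  obtain ⟨hzu0, hu0y⟩ := Thru_adj (two_le_n P) hu0
  -- such elements fix `u0`
  have key : ∀ g ∈ T, g • w = w → g • z = z → g • u0 = u0 := by
    intro g hg hgw hgz
    have hgy : g • y = y := hTS hg
    obtain ⟨m, hm, hmy', hk⟩ := hTd g hg y' hopp
    have hmy : m • y = y := hTS hm
    have hgx : g • x = x := mid_fix P hx hw hwy hgy hgw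
    have hm_of : ∀ {a : V}, P.adj y a → g • a = a → m • a = a := by
      intro a ha hga
      have h1 := hk.2 a ha
      rw [mul_smul] at h1
      have h2 : m⁻¹ • a = g⁻¹ • a := by
        rw [← inv_smul_smul g (m⁻¹ • a), h1]
      rw [inv_fix hga] at h2
      exact (inv_smul_eq_iff.1 h2).symm
    have hmx := hm_of hx hgx
    have hmz := hm_of hz hgz
    have hmw : m • w = w := F.proj_fix hthru hmy hmx hmy'
    have hmu : m • u0 = u0 := F.proj_fix hu0 hmy hmz hmy'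
    have hkw : (g * m⁻¹) • w = w := by rw [mul_smul, inv_fix hmw, hgw]
    have hkx : g * m⁻¹ ∈ P.K x := hB.semireg hy (P.symm hx) (P.symm hw) hwy ⟨hk, hkw⟩
    have hkz : g * m⁻¹ ∈ P.K z := hB.ball hy (P.symm hx) (P.symm hz) ⟨hkx, hk⟩
    have h1 := hkz.2 u0 hzu0
    rwa [mul_smul, inv_fix hmu] at h1
  refine ⟨hgz, fun u hu => ?_⟩
  by_cases huy : u = y
  · rw [huy]
    exact hTS hg
  obtain ⟨a, ha, haw, hau⟩ := F.pair_trans (P.symm hx) (P.symm hz) hxz hw hwy hzu0 hu0y hw hwy hu huy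
  have hay : a • y = y := ha.1.2
  have haz : a • z = z := ha.2
  have h1 : a⁻¹ * g * a⁻¹⁻¹ ∈ T := hTn a⁻¹ (inv_fix hay) g hg
  rw [inv_inv] at h1
  have h2 := key _ h1 (by rw [mul_smul, mul_smul, haw, hgw, inv_fix haw])
    (by rw [mul_smul, mul_smul, haz, hgz, inv_fix haz])
  rwa [mul_smul, mul_smul, hau, inv_smul_eq_iff, hau] at h2

/-- the subgroup of the elements of `S y` which agree modulo `E` with elements of `S y'`, for all `y'` opposite `y` -/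
def nearSub (P : Pol G V) (y : V) (E : Subgroup G) (hE : ∀ g : G, g • y = y → ∀ k ∈ E, g * k * g⁻¹ ∈ E) : Subgroup G where
  carrier := {g | g • y = y ∧ ∀ y', P.Opp y y' → ∃ m : G, m • y = y ∧ m • y' = y' ∧ g * m⁻¹ ∈ E}
  mul_mem' := by
    rintro a b ⟨ha, ha'⟩ ⟨hb, hb'⟩
    refine ⟨by rw [mul_smul, hb, ha], fun y' hy' => ?_⟩
    obtain ⟨m, hm, hm', h1⟩ := ha' y' hy'
    obtain ⟨l, hl, hl', h2⟩ := hb' y' hy'
    refine ⟨m * l, by rw [mul_smul, hl, hm], by rw [mul_smul, hl', hm'], ?_⟩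
    have h3 := mul_mem h1 (hE m hm _ h2)
    have h4 : a * m⁻¹ * (m * (b * l⁻¹) * m⁻¹) = a * b * (m * l)⁻¹ := by group
    rwa [h4] at h3
  one_mem' := ⟨one_smul _ _, fun y' _ => ⟨1, one_smul _ _, one_smul _ _, by rw [inv_one, mul_one]; exact one_mem E⟩⟩
  inv_mem' := by
    rintro a ⟨ha, ha'⟩
    refine ⟨inv_fix ha, fun y' hy' => ?_⟩
    obtain ⟨m, hm, hm', h1⟩ := ha' y' hy'
    refine ⟨m⁻¹, inv_fix hm, inv_fix hm', ?_⟩
    have h2 := hE m⁻¹ (inv_fix hm) _ (inv_mem h1)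
    have h3 : m⁻¹ * (a * m⁻¹)⁻¹ * m⁻¹⁻¹ = a⁻¹ * m⁻¹⁻¹ := by group
    rwa [h3] at h2

/-- **Kill lemma, core form** -/
theorem kill_core (F : Facts P) (hB : CaseB P b) (hy : P.tp y = b) {T : Subgroup G} (hTS : T ≤ P.S y)
    (hTn : ∀ g ∈ P.S y, ∀ a ∈ T, g * a * g⁻¹ ∈ T)
    (hTd : ∀ g ∈ T, ∀ y', P.Opp y y' → ∃ m ∈ T, m • y' = y' ∧ g * m⁻¹ ∈ P.K y)
    {x z : V} (hx : P.adj y x) (hz : P.adj y z) (hxz : x ≠ z) {g : G} (hg : g ∈ T) (hgx : g • x = x) (hgz : g • z = z) :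
    g ∈ P.K y := by
  -- both steps
  have step : ∀ {w : V}, P.adj x w → w ≠ y → ∀ g ∈ T, g • w = w → g • z = z → g ∈ P.K x := by
    intro w hw hwy g hg hgw hgz
    have h1 := kill_step F hB hy hTS hTn hTd hx hz hxz hw hwy hg hgw hgz
    obtain ⟨u, -, hzu, -, huy, -⟩ := exists_two P z y
    exact kill_step F hB hy hTS hTn hTd hz hx hxz.symm hzu huy hg (h1.2 u hzu)
      (mid_fix P hx hw hwy (hTS hg) hgw)
  set E := P.K x ⊓ P.K y with hE
  have hEn : ∀ g : G, g • y = y → ∀ k ∈ E, g * k * g⁻¹ ∈ E := fun g hg k hk => E_conj hB hy hx hg hk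
  have hW := no_sharp F (nearSub P y E hEn) (fun g hg => hg.1) ?_ ?_
  · -- replace `g` by an element of `S y'`
    obtain ⟨y', hopp⟩ := F.exists_opp y
    obtain ⟨m, hm, hmy', hk⟩ := hTd g hg y' hopp
    have hmy : m • y = y := hTS hm
    have hm_of : ∀ {a : V}, P.adj y a → g • a = a → m • a = a := by
      intro a ha hga
      have h1 := hk.2 a ha
      rw [mul_smul] at h1
      have h2 : m⁻¹ • a = g⁻¹ • a := by
        rw [← inv_smul_smul g (m⁻¹ • a), h1]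
      rw [inv_fix hga] at h2
      exact (inv_smul_eq_iff.1 h2).symm
    have hmx := hm_of hx hgx
    have hmz := hm_of hz hgz
    obtain ⟨w, hw⟩ := F.proj_exists hopp hx
    obtain ⟨hxw, hwy⟩ := Thru_adj (two_le_n P) hw
    have hmw : m • w = w := F.proj_fix hw hmy hmx hmy'
    have hmK : m ∈ P.K x := step hxw hwy m hm hmw hmz
    -- `m` lies in the subgroup
    have hmW : m ∈ nearSub P y E hEn := by
      refine ⟨hmy, fun y2 hopp2 => ?_⟩
      obtain ⟨l, hl, hly2, hk2⟩ := hTd m hm y2 hopp2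
      have hly : l • y = y := hTS hl
      obtain ⟨w2, hw2⟩ := F.proj_exists hopp2 hx
      obtain ⟨hxw2, hw2y⟩ := Thru_adj (two_le_n P) hw2
      have hlx : l • x = x := by
        have h1 := hk2.2 x hx
        rw [mul_smul] at h1
        have h2 : l⁻¹ • x = m⁻¹ • x := by
          rw [← inv_smul_smul m (l⁻¹ • x), h1]
        rw [inv_fix hmx] at h2
        exact (inv_smul_eq_iff.1 h2).symm
      have hlw2 : l • w2 = w2 := F.proj_fix hw2 hly hlx hly2
      refine ⟨l, hly, hly2, ?_, hk2⟩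
      refine hB.semireg hy (P.symm hx) (P.symm hxw2) hw2y (mem_inf.2 ⟨hk2, mem_stabilizer_iff.2 ?_⟩)
      rw [mul_smul, inv_fix hlw2, hmK.2 w2 hxw2]
    have h3 := mul_mem hk (hW hmW)
    rwa [inv_mul_cancel_right] at h3
  · -- normality
    rintro g hg a ⟨ha, ha'⟩
    have hgy : g • y = y := hg
    refine ⟨by rw [mul_smul, mul_smul, inv_fix hgy, ha, hgy], fun y2 hopp2 => ?_⟩
    have h1 : P.Opp y (g⁻¹ • y2) := by
      have := opp_smul P g⁻¹ hopp2
      rwa [inv_fix hgy] at this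
    obtain ⟨m, hm, hm', h2⟩ := ha' _ h1
    refine ⟨g * m * g⁻¹, by rw [mul_smul, mul_smul, inv_fix hgy, hm, hgy], ?_, ?_⟩
    · rw [mul_smul, mul_smul, hm', smul_inv_smul]
    · have h3 := hEn g hgy _ h2
      have h4 : g * (a * m⁻¹) * g⁻¹ = g * a * g⁻¹ * (g * m * g⁻¹)⁻¹ := by group
      rwa [h4] at h3
  · -- the stabilizer of a neighbour
    rintro a ha g ⟨⟨hgy, hg'⟩, hga⟩
    refine ⟨hga, fun w hw => ?_⟩
    by_cases hwy : w = y
    · rw [hwy]
      exact hgy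
    obtain ⟨y2, hopp2, hthru⟩ := F.proj_opp ha hw hwy
    obtain ⟨m, hm, hm', h2⟩ := hg' y2 hopp2
    have h3 : g * m⁻¹ ∈ P.K a ⊓ P.K y := E_le hB hy hx ha h2
    have hma : m • a = a := by
      have h1 := h3.2.2 a ha
      rw [mul_smul] at h1
      have h4 : m⁻¹ • a = g⁻¹ • a := by
        rw [← inv_smul_smul g (m⁻¹ • a), h1]
      rw [inv_fix hga] at h4
      exact (inv_smul_eq_iff.1 h4).symm
    have hmw : m • w = w := F.proj_fix hthru hm hma hm'
    have h5 := h3.1.2 w hw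
    rwa [mul_smul, inv_fix hmw] at h5

/-! ### the permutation form -/

/-- the elements of `S y` inducing an element of `X` on the neighbours -/
def pre (P : Pol G V) (y : V) (X : Subgroup (Equiv.Perm {w : V // P.adj y w})) : Subgroup G :=
  (X.comap (P.toPerm y)).map (P.S y).subtype

theorem mem_pre {X : Subgroup (Equiv.Perm {w : V // P.adj y w})} {g : G} :
    g ∈ pre P y X ↔ ∃ hg : g ∈ P.S y, P.toPerm y ⟨g, hg⟩ ∈ X := by
  constructor
  · rintro ⟨⟨g, hg⟩, h1, rfl⟩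
    exact ⟨hg, h1⟩
  · rintro ⟨hg, h1⟩
    exact ⟨⟨g, hg⟩, h1, rfl⟩

theorem pre_le (X : Subgroup (Equiv.Perm {w : V // P.adj y w})) : pre P y X ≤ P.S y :=
  fun _ h => (mem_pre.1 h).1

/-- the kernel of `toPerm` -/
theorem toPerm_eq_iff {g h : P.S y} : P.toPerm y g = P.toPerm y h ↔ (g : G) * (h : G)⁻¹ ∈ P.K y := by
  constructor
  · intro h1
    refine ⟨?_, fun w hw => ?_⟩
    · rw [mul_smul, inv_fix (show (h : G) • y = y from h.2)]
      exact g.2
    · have hw' : P.adj y ((h : G)⁻¹ • w) := adj_smul_of_fix P (inv_fix (show (h : G) • y = y from h.2)) hw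
      have h2 := congrArg (fun σ : Equiv.Perm {w : V // P.adj y w} => ((σ ⟨_, hw'⟩ : {w : V // P.adj y w}) : V)) h1
      simp only [Pol.toPerm_apply] at h2
      rw [mul_smul, h2, smul_inv_smul]
  · intro h1
    ext ⟨w, hw⟩
    rw [Pol.toPerm_apply, Pol.toPerm_apply]
    have h2 := h1.2 _ (adj_smul_of_fix P (show (h : G) • y = y from h.2) hw)
    rwa [mul_smul, inv_smul_smul] at h2

theorem pre_conj {X : Subgroup (Equiv.Perm {w : V // P.adj y w})} (hXL : X ≤ P.L y) (hn : (X.subgroupOf (P.L y)).Normal)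
    {g a : G} (hg : g ∈ P.S y) (ha : a ∈ pre P y X) : g * a * g⁻¹ ∈ pre P y X := by
  obtain ⟨ha1, ha2⟩ := mem_pre.1 ha
  refine mem_pre.2 ⟨mul_mem (mul_mem hg ha1) (inv_mem hg), ?_⟩
  have h1 : P.toPerm y ⟨g, hg⟩ ∈ P.L y := ⟨⟨g, hg⟩, mem_subgroupOf.2 hg, rfl⟩
  have h2 := hn.conj_mem ⟨P.toPerm y ⟨a, ha1⟩, hXL ha2⟩ (mem_subgroupOf.2 ha2) ⟨_, h1⟩
  rw [mem_subgroupOf] at h2
  have h3 : P.toPerm y ⟨g * a * g⁻¹, mul_mem (mul_mem hg ha1) (inv_mem hg)⟩ =
      P.toPerm y ⟨g, hg⟩ * P.toPerm y ⟨a, ha1⟩ * (P.toPerm y ⟨g, hg⟩)⁻¹ := by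
    rw [← map_mul, ← map_inv, ← map_mul]
    rfl
  rw [h3]
  exact h2

theorem L'_le (P : Pol G V) (y y' : V) : P.L' y y' ≤ P.L y := by
  rintro _ ⟨g, hg, rfl⟩
  exact ⟨g, mem_subgroupOf.2 (mem_subgroupOf.1 hg).1, rfl⟩

/-- **Kill lemma** : in case (B) a normal subgroup `X ≤ L' y y'` of `L y` acts semiregularly on the pairs of
neighbours of `y` -/
theorem kill (F : Facts P) (hB : CaseB P b) (hy : P.tp y = b) {y' : V} (hopp : P.Opp y y')
    (X : Subgroup (Equiv.Perm {w : V // P.adj y w})) (hX : X ≤ P.L' y y') (hn : (X.subgroupOf (P.L y)).Normal)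
    {x z : {w : V // P.adj y w}} (hxz : x ≠ z) {σ : Equiv.Perm {w : V // P.adj y w}} (hσ : σ ∈ X) (hσx : σ x = x)
    (hσz : σ z = z) : σ = 1 := by
  have hXL : X ≤ P.L y := hX.trans (L'_le P y y')
  obtain ⟨⟨g, hg⟩, -, rfl⟩ := hXL hσ
  have h1 := kill_core F hB hy (T := pre P y X) (pre_le X) (fun g hg a ha => pre_conj hXL hn hg ha) ?_ x.2 z.2
    (fun h => hxz (Subtype.ext h)) (g := g) (mem_pre.2 ⟨hg, hσ⟩) ?_ ?_
  · rw [← map_one (P.toPerm y), toPerm_eq_iff]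
    rw [OneMemClass.coe_one, inv_one, mul_one]
    exact h1
  · intro g hg y2 hopp2
    obtain ⟨h, hhy, hhy'⟩ := exists_opp_map P hopp hopp2
    have h2 : h⁻¹ * g * h⁻¹⁻¹ ∈ pre P y X := pre_conj hXL hn (inv_fix hhy) hg
    rw [inv_inv] at h2
    obtain ⟨h3, h4⟩ := mem_pre.1 h2
    obtain ⟨⟨m, hm⟩, hm', h5⟩ := hX h4
    obtain ⟨-, hmy'⟩ := mem_subgroupOf.1 hm'
    have hmy' : m • y' = y' := hmy'
    have h6 : m ∈ pre P y X := mem_pre.2 ⟨hm, by rw [h5]; exact h4⟩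
    refine ⟨h * m * h⁻¹, pre_conj hXL hn hhy h6, ?_, ?_⟩
    · rw [mul_smul, mul_smul, ← hhy', inv_smul_smul, hmy']
    · have h7 := K_conj' P hhy (toPerm_eq_iff.1 h5.symm)
      have h8 : h * (h⁻¹ * g * h * m⁻¹) * h⁻¹ = g * (h * m * h⁻¹)⁻¹ := by group
      rwa [h8] at h7
  · exact congrArg Subtype.val hσx
  · exact congrArg Subtype.val hσz

/-! ### the complement lemma -/

/-- the centraliser of `K y / E` in `S y` -/
def cenK (P : Pol G V) (y : V) (E : Subgroup G) : Subgroup G where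
  carrier := {g | g • y = y ∧ ∀ k ∈ P.K y, g * k * g⁻¹ * k⁻¹ ∈ E}
  mul_mem' := by
    rintro a b ⟨ha, ha'⟩ ⟨hb, hb'⟩
    refine ⟨by rw [mul_smul, hb, ha], fun k hk => ?_⟩
    have h1 := ha' _ (K_conj' P hb hk)
    have h2 := hb' k hk
    have h3 : a * b * k * (a * b)⁻¹ * k⁻¹ = (a * (b * k * b⁻¹) * a⁻¹ * (b * k * b⁻¹)⁻¹) * (b * k * b⁻¹ * k⁻¹) := by
      group
    rw [h3]
    exact mul_mem h1 h2
  one_mem' := ⟨one_smul _ _, fun k _ => by simp⟩
  inv_mem' := by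
    rintro a ⟨ha, ha'⟩
    refine ⟨inv_fix ha, fun k hk => ?_⟩
    have h1 := ha' _ (K_conj' P (inv_fix ha) hk)
    have h2 : a⁻¹ * k * a⁻¹⁻¹ * k⁻¹ = (a * (a⁻¹ * k * a⁻¹⁻¹) * a⁻¹ * (a⁻¹ * k * a⁻¹⁻¹)⁻¹)⁻¹ := by group
    rw [h2]
    exact inv_mem h1

/-- a coprime combination -/
theorem mem_of_coprime {H : Subgroup G} {g : G} {m n : ℕ} (hc : m.Coprime n) (hm : g ^ m ∈ H) (hn : g ^ n ∈ H) :
    g ∈ H := by
  obtain ⟨u, v, huv⟩ := (Nat.isCoprime_iff_coprime).2 hc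
  have h1 : g = (g ^ m) ^ u * (g ^ n) ^ v := by
    rw [← zpow_natCast, ← zpow_natCast, ← zpow_mul, ← zpow_mul, ← zpow_add, mul_comm (m : ℤ), mul_comm (n : ℤ), huv,
      zpow_one]
  rw [h1]
  exact mul_mem (zpow_mem hm u) (zpow_mem hn v)

/-- a commutator which is central and has two coprime exponents -/
theorem commute_of_coprime {Q : Type*} [Group Q] {a b z : Q} (h : a * b = z * (b * a)) (hza : Commute z a)
    {m n : ℕ} (hc : m.Coprime n) (hm : Commute (a ^ m) b) (hn : z ^ n = 1) : Commute a b := by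
  have h1 : b * a * b⁻¹ = z⁻¹ * a := by
    have h2 : z⁻¹ * (a * b) = b * a := by rw [h, inv_mul_cancel_left]
    rw [← h2]
    group
  have h2 : b * a ^ m * b⁻¹ = (z⁻¹ * a) ^ m := by rw [← h1, conj_pow]
  rw [(hza.inv_left).mul_pow, ← hm.eq, mul_inv_cancel_right] at h2
  have h3 : (z⁻¹) ^ m = 1 := by
    have := h2
    rwa [eq_comm, mul_eq_right] at this
  have h4 : z ^ m = 1 := by rwa [inv_pow, inv_eq_one] at h3
  have h5 : z = 1 := by
    have := mem_of_coprime (H := (⊥ : Subgroup Q)) hc (g := z) (by rw [h4]; exact one_mem _) (by rw [hn]; exact one_mem _)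
    rwa [mem_bot] at this
  rw [h5, one_mul] at h
  exact h

/-- **Complement lemma** -/
theorem complement (F : Facts P) (hB : CaseB P b) (hy : P.tp y = b) {x : V} (hx : P.adj y x) (hne : ¬ P.K x ≤ P.K y)
    (haff : Aff (P.L y)) (hc : (P.q (P.tp y) + 1).Coprime ((P.K x ⊓ P.K y).relIndex (P.K y))) : False := by
  obtain ⟨W₀, hWL, hWn, hWc, hWt, hWs⟩ := haff
  set E := P.K x ⊓ P.K y with hE
  have hEn : ∀ g : G, g • y = y → ∀ k ∈ E, g * k * g⁻¹ ∈ E := fun g hg k hk => E_conj hB hy hx hg hk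
  set C := cenK P y E with hC
  set V0 := pre P y W₀ with hV0
  set N := P.q (P.tp y) + 1 with hN
  set c := E.relIndex (P.K y) with hcdef
  have hV0n : ∀ g : G, g • y = y → ∀ a ∈ V0, g * a * g⁻¹ ∈ V0 := fun g hg a ha => pre_conj hWL hWn hg ha
  have hCn : ∀ g : G, g • y = y → ∀ a ∈ C, g * a * g⁻¹ ∈ C := by
    rintro g hg a ⟨ha, ha'⟩
    refine ⟨by rw [mul_smul, mul_smul, inv_fix hg, ha, hg], fun k hk => ?_⟩
    have h1 := hEn g hg _ (ha' _ (K_conj' P (inv_fix hg) hk))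
    have h2 : g * (a * (g⁻¹ * k * g⁻¹⁻¹) * a⁻¹ * (g⁻¹ * k * g⁻¹⁻¹)⁻¹) * g⁻¹ =
        g * a * g⁻¹ * k * (g * a * g⁻¹)⁻¹ * k⁻¹ := by group
    rwa [h2] at h1
  have hKC : P.K x ≤ C := by
    intro g hg
    have hgy : g • y = y := hg.2 y (P.symm hx)
    refine ⟨hgy, fun k hk => ?_⟩
    refine mem_inf.2 ⟨?_, mul_mem (K_conj' P hgy hk) (inv_mem hk)⟩
    have h1 := K_conj' P (hk.2 x hx) (inv_mem hg)
    have h2 := mul_mem hg h1
    have h3 : g * (k * g⁻¹ * k⁻¹) = g * k * g⁻¹ * k⁻¹ := by group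
    rwa [h3] at h2
  -- powers of the elements of `K y`
  have hKc : ∀ k ∈ P.K y, k ^ c ∈ E := by
    intro k hk
    have : (E.subgroupOf (P.K y)).Normal := by
      refine ⟨fun n hn g => ?_⟩
      rw [mem_subgroupOf] at hn ⊢
      exact hEn g g.2.1 n hn
    have h1 := Subgroup.pow_index_mem (E.subgroupOf (P.K y)) ⟨k, hk⟩
    rw [mem_subgroupOf] at h1
    exact h1
  -- `V0`
  have hV0y : ∀ g ∈ V0, g • y = y := fun g hg => (mem_pre.1 hg).1
  have hV0f : ∀ g ∈ V0, ∀ a, P.adj y a → g • a = a → g ∈ P.K y := by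
    intro g hg a ha hga
    obtain ⟨hgS, hgW⟩ := mem_pre.1 hg
    have h1 : (⟨P.toPerm y ⟨g, hgS⟩, hgW⟩ : W₀) ∈ stabilizer W₀ (⟨a, ha⟩ : {w : V // P.adj y w}) :=
      mem_stabilizer_iff.2 (Subtype.ext hga)
    rw [hWs, mem_bot] at h1
    have h2 : P.toPerm y ⟨g, hgS⟩ = P.toPerm y 1 := by
      rw [map_one]
      exact congrArg Subtype.val h1
    rw [toPerm_eq_iff, OneMemClass.coe_one, inv_one, mul_one] at h2
    exact h2
  have hV0t : ∀ a a', P.adj y a → P.adj y a' → ∃ g ∈ V0, g • a = a' := by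
    intro a a' ha ha'
    obtain ⟨w, hw⟩ := hWt.exists_smul_eq (⟨a, ha⟩ : {w : V // P.adj y w}) ⟨a', ha'⟩
    obtain ⟨⟨g, hg⟩, -, h1⟩ := hWL w.2
    refine ⟨g, mem_pre.2 ⟨hg, by rw [h1]; exact w.2⟩, ?_⟩
    have h2 : P.toPerm y ⟨g, hg⟩ ⟨a, ha⟩ = ⟨a', ha'⟩ := by
      rw [h1]
      exact hw
    exact congrArg Subtype.val h2
  have hV0c : ∀ g ∈ V0, ∀ h ∈ V0, g * h * (h * g)⁻¹ ∈ P.K y := by
    intro g hg h hh
    obtain ⟨hgS, hgW⟩ := mem_pre.1 hg
    obtain ⟨hhS, hhW⟩ := mem_pre.1 hh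
    have h1 : P.toPerm y (⟨g, hgS⟩ * ⟨h, hhS⟩) = P.toPerm y (⟨h, hhS⟩ * ⟨g, hgS⟩) := by
      rw [map_mul, map_mul]
      exact congrArg Subtype.val (hWc.is_comm.comm (⟨_, hgW⟩ : W₀) ⟨_, hhW⟩)
    exact toPerm_eq_iff.1 h1
  have hWcard : Nat.card W₀ = N := by
    rw [hN, ← P.card_nb y]
    have h1 : Function.Bijective fun w : W₀ => w • (⟨x, hx⟩ : {w : V // P.adj y w}) := by
      constructor
      · intro w w' h
        have h2 : w'⁻¹ * w ∈ stabilizer W₀ (⟨x, hx⟩ : {w : V // P.adj y w}) := by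
          rw [mem_stabilizer_iff, mul_smul, inv_smul_eq_iff]
          exact h
        rw [hWs, mem_bot, inv_mul_eq_one] at h2
        exact h2.symm
      · intro a
        exact hWt.exists_smul_eq _ a
    exact Nat.card_congr (Equiv.ofBijective _ h1)
  have hV0N : ∀ g ∈ V0, g ^ N ∈ P.K y := by
    intro g hg
    obtain ⟨hgS, hgW⟩ := mem_pre.1 hg
    have h1 : (⟨P.toPerm y ⟨g, hgS⟩, hgW⟩ : W₀) ^ N = 1 := by rw [← hWcard]; exact pow_card_eq_one'
    have h2 : P.toPerm y (⟨g, hgS⟩ ^ N) = P.toPerm y 1 := by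
      rw [map_pow, map_one]
      exact congrArg Subtype.val h1
    rw [toPerm_eq_iff, OneMemClass.coe_one, inv_one, mul_one] at h2
    exact h2
  -- the group modulo `E`
  have hEnor : (E.subgroupOf (P.S y)).Normal := by
    refine ⟨fun n hn g => ?_⟩
    rw [mem_subgroupOf] at hn ⊢
    exact hEn g g.2 n hn
  let π : P.S y →* (P.S y) ⧸ E.subgroupOf (P.S y) := QuotientGroup.mk' _
  have hπ1 : ∀ g : P.S y, π g = 1 ↔ (g : G) ∈ E := by
    intro g
    rw [QuotientGroup.mk'_apply, QuotientGroup.eq_one_iff, mem_subgroupOf]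
  have hπc : ∀ g h : P.S y, (g : G) ∈ C → (h : G) ∈ P.K y → Commute (π h) (π g) := by
    intro g h hg hh
    have h1 : π (g * h * g⁻¹ * h⁻¹) = 1 := (hπ1 _).2 (hg.2 h hh)
    rw [map_mul, map_mul, map_mul, map_inv, map_inv, mul_inv_eq_one, mul_inv_eq_iff_eq_mul] at h1
    exact h1.symm
  have hcomm : ∀ g h : P.S y, (g : G) ∈ V0 ⊓ C → (h : G) ∈ V0 ⊓ C → Commute (π g) (π h) := by
    intro g h hg hh
    obtain ⟨k, hk⟩ : ∃ k : P.S y, k = g * h * (h * g)⁻¹ := ⟨_, rfl⟩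
    have hkK : (k : G) ∈ P.K y := by
      rw [hk]
      exact hV0c g hg.1 h hh.1
    refine commute_of_coprime (z := π k) ?_ (hπc g k hg.2 hkK) hc ?_ ?_
    · rw [hk, ← map_mul, ← map_mul, ← map_mul, inv_mul_cancel_right]
    · rw [← map_pow]
      exact hπc h (g ^ N) hh.2 (hV0N g hg.1)
    · rw [← map_pow]
      exact (hπ1 _).2 (hKc k hkK)
  -- the sharp normal subgroup
  let W : Subgroup G :=
    { carrier := {g | g ∈ V0 ⊓ C ∧ g ^ N ∈ E}
      mul_mem' := by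
        rintro g h ⟨hg, hg'⟩ ⟨hh, hh'⟩
        refine ⟨mul_mem hg hh, ?_⟩
        have hgS : g ∈ P.S y := hV0y g hg.1
        have hhS : h ∈ P.S y := hV0y h hh.1
        have h1 : π ((⟨g, hgS⟩ * ⟨h, hhS⟩) ^ N) = 1 := by
          rw [map_pow, map_mul, (hcomm ⟨g, hgS⟩ ⟨h, hhS⟩ hg hh).mul_pow, ← map_pow, ← map_pow,
            (hπ1 (⟨g, hgS⟩ ^ N)).2 hg', (hπ1 (⟨h, hhS⟩ ^ N)).2 hh', one_mul]
        exact (hπ1 _).1 h1
      one_mem' := ⟨one_mem _, by rw [one_pow]; exact one_mem _⟩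
      inv_mem' := by
        rintro g ⟨hg, hg'⟩
        exact ⟨inv_mem hg, by rw [inv_pow]; exact inv_mem hg'⟩ }
  have hW : W ≤ P.K y := by
    refine no_sharp F W (fun g hg => hV0y g hg.1.1) ?_ ?_
    · rintro g hg a ⟨ha, ha'⟩
      refine ⟨mem_inf.2 ⟨hV0n g hg a ha.1, hCn g hg a ha.2⟩, ?_⟩
      rw [conj_pow]
      exact hEn g hg _ ha'
    · rintro a ha g ⟨⟨hg, hg'⟩, hga⟩
      have h1 : g ∈ P.K y := hV0f g hg.1 a ha hga
      have h2 : g ∈ E := mem_of_coprime hc hg' (hKc g h1)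
      exact (E_le hB hy hx ha h2).1
  -- `V0 ⊓ C` is not contained in `K y`
  apply hne
  intro g hg
  have hgy : g • y = y := hg.2 y (P.symm hx)
  refine ⟨hgy, fun a ha => ?_⟩
  obtain ⟨v, hv, hva⟩ := hV0t x a hx ha
  have hvy : v • y = y := hV0y v hv
  have h1 : g * v * g⁻¹ * v⁻¹ ∈ V0 ⊓ C := by
    refine mem_inf.2 ⟨mul_mem (hV0n g hgy v hv) (inv_mem hv), ?_⟩
    have h2 := mul_mem (hKC hg) (hCn v hvy _ (inv_mem (hKC hg)))
    have h3 : g * (v * g⁻¹ * v⁻¹) = g * v * g⁻¹ * v⁻¹ := by group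
    rwa [h3] at h2
  have h2 : g * v * g⁻¹ * v⁻¹ ∈ P.K y := by
    refine mem_of_coprime hc (hV0N _ h1.1) (hW ⟨pow_mem h1 c, ?_⟩)
    rw [← pow_mul, mul_comm, pow_mul]
    exact hKc _ (hV0N _ h1.1)
  have h3 := h2.2 (g • a) (adj_smul_of_fix P hgy ha)
  have h4 := h2.2 a ha
  rw [mul_smul, mul_smul, mul_smul, ← hva, inv_smul_smul, inv_fix hg.1] at h4
  rw [hva] at h4
  exact h4

/-- **Complement lemma**, prime form -/
theorem complement' (F : Facts P) (hB : CaseB P b) (hy : P.tp y = b) {x : V} (hx : P.adj y x) (hne : ¬ P.K x ≤ P.K y)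
    (haff : Aff (P.L y)) {r e : ℕ} (hr : r.Prime) (hq : P.q (P.tp y) + 1 = r ^ e)
    (hdvd : ¬ r ∣ (P.K x ⊓ P.K y).relIndex (P.K y)) : False := by
  refine complement F hB hy hx hne haff ?_
  rw [hq]
  exact Nat.Coprime.pow_left e ((Nat.Prime.coprime_iff_not_dvd hr).2 hdvd)

end CaseB

end Cfsg.Agent.H115.Tits
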