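import Cfsg.Agent.H115.Tits.StmtsB
import Cfsg.Agent.H384.TwoTrans
import Cfsg.Agent.H163.PG.Few

/-!
# S3414, case (B): the statement TabSq (helper115)

Only used in the two pieces `StB0`, `StBE1` (`E = 1`), where the order of the two point stabilizer is divisible by
`(s t) ^ (m-1)`, in particular by `t` = degree minus one.
-/

set_option autoImplicit false

namespace Cfsg.Agent.H115.Tits

open Cfsg.Agent.H873.Tits Cfsg.Agent.H384.TwoTrans

universe u v w

/-- TABSQ: a non-affine 2-transitive group of degree `t + 1` such that `t` divides the order of the two point stabilizer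
contains the alternating group or is of type `PSL_d`, `d ≥ 3`.  (All other rows of `H384.TwoTransMain.main`:
`(t+1) t² ∤ |T| |Out T|`, numerics in `H115.Tits.TabNum`.) -/
def StTabSq : Prop := ∀ {Ω : Type v} [Finite Ω] (L : Subgroup (Equiv.Perm Ω)) (a b : Ω), TwoTr L → 3 ≤ Nat.card Ω →
  a ≠ b → ¬ Aff L → Nat.card Ω - 1 ∣ Nat.card ↥(Stb L a ⊓ Stb L b) → AltLe L ∨ ∃ p d f, PSLType L p d f

/-- the input of a row of TABSQ -/
structure DatSq {G : Type u} (Ω : Type v) [Group G] [MulAction G Ω] (T : Subgroup G) (t T₂ : ℕ) : Prop where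
  A : AS G Ω T
  hΩ : Nat.card Ω = t + 1
  hG : Nat.card G = (t + 1) * t * T₂
  t2 : 2 ≤ t
  sq : t ∣ T₂

/-- the output of a row of TABSQ -/
def RowSq (T : Type u) [Group T] (t : ℕ) : Prop :=
  2 * Nat.card T = (t + 1).factorial ∨
  (∃ p d f : ℕ, 3 ≤ d ∧ 1 ≤ f ∧ p.Prime ∧ (t + 1) * (p ^ f - 1) = (p ^ f) ^ d - 1 ∧
    ∃ (F : Type) (_ : Field F) (_ : Fintype F), Fintype.card F = p ^ f ∧
      Nonempty (T ≃* Matrix.ProjectiveSpecialLinearGroup (Fin d) F))

variable {G : Type u} {Ω : Type v} [Group G] [MulAction G Ω] {T : Subgroup G} {t T₂ : ℕ}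

/-- `(t+1) t²` divides `|S| |Out S|` -/
theorem DatSq.dvd (D : DatSq Ω T t T₂) {S : Type w} [Group S] (e : ↥T ≃* S) :
    (t + 1) * (t * t) ∣ Nat.card S * Nat.card (Cfsg.Out S) := by
  have := D.A.finG
  have := D.A.normal
  have h1 := Cfsg.Agent.H163.PG.card_dvd_mul_out T e D.A.cent
  rw [D.hG] at h1
  refine Dvd.dvd.trans ?_ h1
  rw [← mul_assoc]
  exact Nat.mul_dvd_mul_left _ D.sq

end Cfsg.Agent.H115.Tits
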