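import Cfsg.Agent.H115.Tits.BE1Main
import Cfsg.Agent.H506.Tits.AsmB
import Cfsg.Agent.H272.TP.BAS
import Cfsg.Agent.H592.Tits.BS5
import Cfsg.Agent.H270.Tits.PslSemi
import Cfsg.Agent.H274.Tits.PslNum
import Cfsg.Agent.H274.Tits.TabSqRows
import Cfsg.Agent.H803.BP.Brk

/-!
# S3414, case (B): assembly of all pieces (helper115)

Open hypotheses: `StBAff` (helper263), `StPslSub3`, `StNo210`.
-/

set_option autoImplicit false

namespace Cfsg.Agent.H115.Tits

open Cfsg.Agent.H873.Tits Cfsg.Agent.H506.Tits Cfsg.Agent.H384.TwoTrans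

universe u v

/-- **case (B) is impossible**, from the list of the 2-transitive groups and the open pieces -/
theorem st_bfalse_of' (hK : ∀ {G Ω : Type v} [Group G] [MulAction G Ω] {T : Subgroup G}, AS G Ω T → Known2 ↥T (Nat.card Ω))
    (h1a : StTab1a.{v}) (h2 : StTab2.{v}) (h3354 : StLA.{v}) (hAff : Cfsg.Agent.H506.Tits.StBAff.{u, v})
    (hSub : StPslSub3.{v}) (h210 : StNo210.{v}) : StBFalse.{u, v} :=
  have hTab : StTabSq.{v} := Cfsg.Agent.H274.Tits.Sq.st_tabsq_of_known hK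
  have hNum : StPslNum.{v} := Cfsg.Agent.H274.Tits.PN.st_pslnum
  st_bfalse_of (st_b0 hTab hNum hSub) hAff (st_be1_of hTab hNum hSub h210) Cfsg.Agent.H272.TP.st_bas
    (st_bpsl Cfsg.Agent.H270.Tits.st_psl_semi hNum hSub)
    (Cfsg.Agent.H803.BP.st_brk_of hK h2 Cfsg.Agent.H592.T4.st_bs5) h1a h3354

end Cfsg.Agent.H115.Tits
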