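import Cfsg.Agent.H115.Tits.AltE1

/-!
# S3414, case (B): the piece `StB0`, `K x ≤ K y` (helper115)
-/

set_option autoImplicit false
set_option linter.unusedSectionVars false

namespace Cfsg.Agent.H115.Tits

open Cfsg.Agent.H873.Tits Cfsg.Agent.H506.Tits Subgroup MulAction

universe u v

variable {G : Type u} [Group G] [Finite G] {V : Type v} [Finite V] [MulAction G V] {P : Pol G V} {b : Bool}

/-- if `K x = 1` then `L x` is not affine -/
theorem not_aff_of_K (F : Facts P) {x : V} (hK : P.K x = ⊥) : ¬ Aff (P.L x) := by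
  rintro ⟨W, hWL, hWn, -, hWt, hWs⟩
  have h := no_sharp F (y := x) (pre P x W) (pre_le W) (fun g hg a ha => pre_conj hWL hWn hg ha) (by
    rintro v hv g ⟨hg, hgv⟩
    obtain ⟨hgx, hgW⟩ := mem_pre.1 hg
    have h1 := hWs ⟨v, hv⟩
    have h2 : (⟨P.toPerm x ⟨g, hgx⟩, hgW⟩ : W) ∈ stabilizer W (⟨v, hv⟩ : {w : V // P.adj x w}) := by
      rw [mem_stabilizer_iff]
      exact Subtype.ext hgv
    rw [h1, mem_bot] at h2
    have h3 : P.toPerm x ⟨g, hgx⟩ = P.toPerm x 1 := by
      rw [map_one]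
      exact congrArg Subtype.val h2
    rw [toPerm_eq_iff, OneMemClass.coe_one, inv_one, mul_one, hK, mem_bot] at h3
    have h4 : g = 1 := h3
    rw [h4]
    exact one_mem _)
  obtain ⟨a, ha, -⟩ := exists_other (P := P) (x := x) (y := x)
  obtain ⟨c, hc, hac⟩ := exists_other (P := P) (x := x) (y := a)
  obtain ⟨⟨w, hw⟩, hwa⟩ := hWt.exists_smul_eq (⟨a, ha⟩ : {w : V // P.adj x w}) ⟨c, hc⟩
  obtain ⟨g, hg, hgw⟩ := mem_L.1 (hWL hw)
  have h1 : g ∈ pre P x W := mem_pre.2 ⟨hg, by rw [hgw]; exact hw⟩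
  have h2 := h h1
  rw [hK, mem_bot] at h2
  subst h2
  have h3 : w = 1 := by
    rw [← hgw]
    exact map_one (P.toPerm x)
  subst h3
  exact hac (congrArg Subtype.val hwa)

/-- if `K x = 1` then case (B) holds for the type of `x` -/
theorem caseB_of_K {x : V} (hK : P.K x = ⊥) : CaseB P (P.tp x) := by
  have h1 : ∀ v, P.tp v = P.tp x → P.K v = ⊥ := by
    intro v hv
    obtain ⟨g, hg⟩ := P.trans (k := 0) (p := fun _ => x) (p' := fun _ => v) (by omega) ⟨fun i hi => by omega, fun i hi => by omega⟩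
      ⟨fun i hi => by omega, fun i hi => by omega⟩ hv.symm
    have h2 : g • x = v := hg 0 le_rfl
    rw [← h2, Cfsg.Agent.H263.TW.K_smul, hK, Subgroup.map_bot]
  constructor
  · intro u v w hv huv hwv
    rw [h1 v hv, inf_bot_eq]
    exact bot_le
  · intro u v w hw hvw hu hne
    rw [h1 w hw, bot_inf_eq]
    exact bot_le

theorem num_b0 {n s t : ℕ} (hn : n = 4 ∨ n = 6 ∨ n = 8) (hs : 2 ≤ s) (ht : 2 ≤ t) (h48 : n = 4 → s ≤ t ^ 2)
    (h : s ^ (n / 2 - 1) * t ^ (n / 2) ∣ (s - 1).factorial) : 8 ≤ s := by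
  by_contra hlt
  have hs' : s ∣ (s - 1).factorial := by
    refine Dvd.dvd.trans ?_ h
    refine Dvd.dvd.mul_right (dvd_pow_self s ?_) _
    omega
  have h6 : s = 6 := by
    have : s ≤ 7 := by omega
    interval_cases s <;> revert hs' <;> decide
  subst h6
  have hf : (6 - 1).factorial = 120 := rfl
  rw [hf] at h
  rcases hn with rfl | rfl | rfl
  · have h1 : 6 ≤ t ^ 2 := h48 rfl
    have h2 := Nat.le_of_dvd (by norm_num) h
    norm_num at h h2
    have h3 : t ≤ 4 := by nlinarith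
    interval_cases t
    · norm_num at h1
    · norm_num at h
    · norm_num at h
  · have h2 : 6 ^ 2 ∣ 120 := (Dvd.intro _ rfl).trans h
    revert h2; decide
  · have h2 : 6 ^ 3 ∣ 120 := (Dvd.intro _ rfl).trans h
    revert h2; decide

/-- **`StB0`** -/
theorem st_b0 (hTab : StTabSq.{v}) (hNum : StPslNum.{v}) (hSub : StPslSub3.{v}) : StB0.{u, v} := by
  intro G _ _ V _ _ P F N b hB x y hxy hy hle
  have hK := (Cfsg.Agent.H263.TW.K_eq_bot_of_le F hB hxy hy hle).1
  have hBx := caseB_of_K hK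
  have hna := not_aff_of_K F hK
  obtain ⟨x', hopp⟩ := F.exists_opp x
  obtain ⟨w, hxw, -⟩ := exists_other (P := P) (x := x) (y := x)
  obtain ⟨z, hxz, hwz⟩ := exists_other (P := P) (x := x) (y := w)
  have hn := P.hn
  -- the index
  have hidx : P.idx x x' = P.q (P.tp x) ^ (P.n / 2 - 1) * P.q (!P.tp x) ^ (P.n / 2) := by
    have h1 := F.count_opp hopp
    rw [hK, bot_inf_eq, Subgroup.card_bot, mul_one, mul_one] at h1
    exact h1
  have hdvd := idx_dvd_T2 F hopp hxw hxz hwz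
  have hs := P.two_le (P.tp x)
  have ht := P.two_le (!P.tp x)
  have hsT : P.q (P.tp x) ∣ P.T2 x w z := by
    refine Dvd.dvd.trans ?_ hdvd
    rw [hidx]
    exact Dvd.dvd.mul_right (dvd_pow_self _ (by omega)) _
  have hfac := T2_dvd_factorial hxw hxz hwz
  rcases hTab (P.L x) ⟨w, hxw⟩ ⟨z, hxz⟩ (twoTr_L F x) (three_le_nb P x) (fun h => hwz (congrArg Subtype.val h)) hna (by
    rw [P.card_nb, Nat.add_sub_cancel, ← T2_eq hxw hxz]
    exact hsT) with hA | ⟨p, d, f, h⟩
  · have h8 : 8 ≤ P.q (P.tp x) := by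
      refine num_b0 hn hs ht (fun h => N.hig48 (Or.inl h) _) ?_
      rw [← hidx]
      exact hdvd.trans hfac
    obtain ⟨r, hr, h1, h2⟩ := exists_prime_mid3 (n := P.q (P.tp x) + 1) (by omega)
    have h3 := dvd_idx F hBx rfl hopp hna hA hr h1 h2
    rw [hidx] at h3
    have h4 : r ∣ P.q (!P.tp x) := by
      rcases hr.dvd_mul.1 h3 with h4 | h4
      · exfalso
        obtain ⟨k, hk⟩ := hr.dvd_of_dvd_pow h4
        have h5 : k < 2 := by
          by_contra h5
          have : r * 2 ≤ r * k := Nat.mul_le_mul_left r (by omega)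
          omega
        interval_cases k <;> omega
      · exact hr.dvd_of_dvd_pow h4
    have h5 : r ^ 2 ∣ (P.q (P.tp x) - 1).factorial := by
      refine Dvd.dvd.trans ?_ hfac
      refine Dvd.dvd.trans ?_ hdvd
      rw [hidx]
      refine Dvd.dvd.mul_left ?_ _
      exact (pow_dvd_pow_of_dvd h4 2).trans (pow_dvd_pow _ (by omega))
    exact sq_not_dvd_factorial hr (by omega) h5
  · exact psl_sq hNum hSub F hBx rfl hxw hxz hwz hna hsT h

end Cfsg.Agent.H115.Tits
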