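import Cfsg.Agent.H115.Tits.B0

/-!
# S3414, case (B): the piece `StBE1`, `E = 1` (helper115)
-/

set_option autoImplicit false
set_option linter.unusedSectionVars false

namespace Cfsg.Agent.H115.Tits

open Cfsg.Agent.H873.Tits Cfsg.Agent.H506.Tits Subgroup MulAction

universe u v

variable {G : Type u} [Group G] {V : Type v} [MulAction G V] {P : Pol G V} {b : Bool}

/-! ### the action on the neighbours of `y` other than `x` -/

/-- the neighbours of `y` other than `x` -/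
abbrev NX (P : Pol G V) (y x : V) : Type v := {w : V // P.adj y w ∧ w ≠ x}

/-- the action of `R ≤ S x ⊓ S y` on the neighbours of `y` other than `x` -/
def rho (P : Pol G V) (y x : V) (R : Subgroup G) (hy : ∀ g ∈ R, g • y = y) (hx : ∀ g ∈ R, g • x = x) :
    R →* Equiv.Perm (NX P y x) where
  toFun g :=
    { toFun := fun w => ⟨(g : G) • w.1, adj_smul_of_fix P (hy g g.2) w.2.1, fun h =>
        w.2.2 ((smul_left_cancel_iff (g : G)).1 (h.trans (hx g g.2).symm))⟩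
      invFun := fun w => ⟨(g : G)⁻¹ • w.1, adj_smul_of_fix P (inv_fix (hy g g.2)) w.2.1, fun h =>
        w.2.2 ((smul_left_cancel_iff (g : G)⁻¹).1 (h.trans (inv_fix (hx g g.2)).symm))⟩
      left_inv := fun w => Subtype.ext (inv_smul_smul _ _)
      right_inv := fun w => Subtype.ext (smul_inv_smul _ _) }
  map_one' := by
    ext w
    exact one_smul _ _
  map_mul' g h := by
    ext w
    exact mul_smul _ _ _

theorem rho_apply {y x : V} {R : Subgroup G} {hy : ∀ g ∈ R, g • y = y} {hx : ∀ g ∈ R, g • x = x} (g : R)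
    (w : NX P y x) : ((rho P y x R hy hx g w : NX P y x) : V) = (g : G) • (w : V) := rfl

/-- the kernel -/
theorem mem_ker_rho {y x : V} {R : Subgroup G} {hy : ∀ g ∈ R, g • y = y} {hx : ∀ g ∈ R, g • x = x} {g : R} :
    g ∈ (rho P y x R hy hx).ker ↔ (g : G) ∈ P.K y := by
  rw [MonoidHom.mem_ker]
  constructor
  · intro h
    refine ⟨hy g g.2, fun w hw => ?_⟩
    by_cases hwx : w = x
    · rw [hwx]
      exact hx g g.2
    · exact congrArg (fun σ : Equiv.Perm (NX P y x) => ((σ ⟨w, hw, hwx⟩ : NX P y x) : V)) h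
  · intro h
    ext ⟨w, hw⟩
    exact h.2 w hw.1

theorem card_NX [Finite V] {y x : V} (hx : P.adj y x) : Nat.card (NX P y x) = P.q (P.tp y) := by
  classical
  have := Fintype.ofFinite V
  have h1 := P.card_nb y
  have h2 : Nat.card (NX P y x) = Nat.card {w : {w : V // P.adj y w} // w ≠ ⟨x, hx⟩} :=
    Nat.card_congr
      { toFun := fun w => ⟨⟨w.1, w.2.1⟩, fun h => w.2.2 (congrArg Subtype.val h)⟩
        invFun := fun w => ⟨w.1.1, w.1.2, fun h => w.2 (Subtype.ext h)⟩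
        left_inv := fun w => rfl
        right_inv := fun w => rfl }
  rw [h2, Nat.card_eq_fintype_card, Fintype.card_subtype_compl, Fintype.card_subtype_eq, ← Nat.card_eq_fintype_card, h1,
    Nat.add_sub_cancel]

theorem altLe_mem {Ω : Type v} [DecidableEq Ω] {L : Subgroup (Equiv.Perm Ω)} (h : AltLe L) {a c d : Ω} (h1 : a ≠ c)
    (h2 : c ≠ d) (h3 : a ≠ d) : Equiv.swap a c * Equiv.swap c d ∈ L := by
  have := h a c d h1 h2 h3
  convert this

/-- the image contains the alternating group if `L y` does -/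
theorem alt_le_rho {y x : V} [Fintype (NX P y x)] [DecidableEq (NX P y x)] (hx : P.adj y x) (hA : AltLe (P.L y))
    (h1 : ∀ g ∈ P.S x ⊓ P.S y, g • y = y) (h2 : ∀ g ∈ P.S x ⊓ P.S y, g • x = x) :
    alternatingGroup (NX P y x) ≤ (rho P y x (P.S x ⊓ P.S y) h1 h2).range := by
  have hdec : DecidableEq {w : V // P.adj y w} := Classical.decEq _
  apply Cfsg.Agent.H942.alt_le_of_T
  intro a c d hac had hcd
  refine ⟨hac, had, hcd, ?_⟩
  obtain ⟨ι, hι'⟩ : ∃ ι : NX P y x → {w : V // P.adj y w}, ∀ w, (ι w : V) = w := ⟨fun w => ⟨w.1, w.2.1⟩, fun _ => rfl⟩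
  have hι : Function.Injective ι := fun u v h => Subtype.ext (by rw [← hι', ← hι', h])
  have hιx : ∀ u, (⟨x, hx⟩ : {w : V // P.adj y w}) ≠ ι u := fun u h => u.2.2 ((hι' u).symm.trans (congrArg Subtype.val h).symm)
  have h3 := altLe_mem hA (hι.ne hac) (hι.ne hcd) (hι.ne had)
  obtain ⟨g, hg, hge⟩ := mem_L.1 h3
  have hgx : g • x = x := by
    have h4 : (P.toPerm y ⟨g, hg⟩ ⟨x, hx⟩) = (Equiv.swap (ι a) (ι c) * Equiv.swap (ι c) (ι d)) ⟨x, hx⟩ := by rw [hge]
    rw [Equiv.Perm.coe_mul, Function.comp_apply, Equiv.swap_apply_of_ne_of_ne (hιx c) (hιx d),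
      Equiv.swap_apply_of_ne_of_ne (hιx a) (hιx c)] at h4
    exact congrArg Subtype.val h4
  refine ⟨⟨g, hgx, hg⟩, ?_⟩
  ext w
  have h4 : (P.toPerm y ⟨g, hg⟩ (ι w)) = (Equiv.swap (ι a) (ι c) * Equiv.swap (ι c) (ι d)) (ι w) := by rw [hge]
  rw [Equiv.Perm.coe_mul, Function.comp_apply, hι.swap_apply, hι.swap_apply] at h4
  have h5 := congrArg Subtype.val h4
  rw [hι'] at h5
  rw [Pol.toPerm_apply, hι'] at h5
  exact h5

/-- `E = 1`, `L y` contains the alternating group, `t ≥ 8`: contradiction -/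
theorem alt_e1 [Finite G] [Finite V] (F : Facts P) {x y : V} (hyx : P.adj y x) (hne : ¬ P.K x ≤ P.K y)
    (hE : P.K x ⊓ P.K y = ⊥) (hA : AltLe (P.L y)) (h8 : 8 ≤ P.q (P.tp y)) : False := by
  classical
  have := Fintype.ofFinite V
  have hxy := P.symm hyx
  obtain ⟨r, hr, h1, h2⟩ := exists_prime_mid3 h8
  have hr2 := hr.two_le
  have hfact : Fact r.Prime := ⟨hr⟩
  have hcy : Fintype.card (NX P y x) = P.q (P.tp y) := by rw [← Nat.card_eq_fintype_card, card_NX hyx]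
  -- `K x` covers the alternating group
  have hKS : P.K x ≤ P.S x ⊓ P.S y := fun k hk => ⟨hk.1, hk.2 y hxy⟩
  have hKn : ((P.K x).subgroupOf (P.S x ⊓ P.S y)).Normal := by
    constructor
    rintro ⟨k, hk⟩ hk' ⟨g, hg⟩
    exact K_conj' P hg.1 hk'
  have hcov := Cfsg.Agent.H508.AltFive.cover (X := NX P y x) (by omega)
    (rho P y x (P.S x ⊓ P.S y) (fun g hg => hg.2) (fun g hg => hg.1)) (alt_le_rho hyx hA _ _)
    ((P.K x).subgroupOf (P.S x ⊓ P.S y)) (by
      intro h3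
      apply hne
      intro k hk
      have h4 : (⟨k, hKS hk⟩ : ↥(P.S x ⊓ P.S y)) ∈ (P.K x).subgroupOf (P.S x ⊓ P.S y) := hk
      exact mem_ker_rho.1 (h3 h4))
  have hrK : r ∣ Nat.card (P.K x) := by
    have h3 := (dvd_card_alt (Ω := NX P y x) hr (by omega) (by omega)).trans (Subgroup.card_dvd_of_le hcov)
    refine (h3.trans (Subgroup.card_map_dvd _ _)).trans ?_
    rw [Nat.card_congr (Subgroup.subgroupOfEquivOfLe hKS).toEquiv]
  obtain ⟨⟨g, hgK⟩, hg⟩ := exists_prime_orderOf_dvd_card' r hrK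
  have hgr : g ^ r = 1 := by
    have h3 := pow_orderOf_eq_one (⟨g, hgK⟩ : P.K x)
    rw [hg] at h3
    exact congrArg Subtype.val h3
  have hg1 : g ≠ 1 := by
    rintro rfl
    rw [show (⟨1, hgK⟩ : P.K x) = 1 from rfl, orderOf_one] at hg
    omega
  -- a fixed point `w`
  obtain ⟨w, hw⟩ : ∃ w : NX P y x, g • (w : V) = w := by
    let σ := rho P y x (P.K x) (fun g hg => hg.2 y hxy) (fun g hg => hg.1) ⟨g, hgK⟩
    have h3 : IsPGroup r (Subgroup.zpowers σ) := by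
      rintro ⟨_, k, rfl⟩
      refine ⟨1, Subtype.ext ?_⟩
      show (σ ^ k) ^ r ^ 1 = 1
      have h4 : σ ^ r = 1 := by
        rw [← map_pow]
        have h5 : (⟨g, hgK⟩ : P.K x) ^ r = 1 := Subtype.ext hgr
        rw [h5, map_one]
      rw [pow_one, ← zpow_natCast, ← zpow_mul, mul_comm, zpow_mul, zpow_natCast, h4, one_zpow]
    obtain ⟨w, hw⟩ := h3.nonempty_fixed_point_of_prime_not_dvd_card (α := NX P y x) (by
      rw [card_NX hyx]
      rintro ⟨k, hk⟩
      have h5 : k < 2 := by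
        by_contra h5
        have : r * 2 ≤ r * k := Nat.mul_le_mul_left r (by omega)
        omega
      interval_cases k <;> omega)
    exact ⟨w, congrArg Subtype.val (hw ⟨σ, Subgroup.mem_zpowers σ⟩)⟩
  -- the second neighbour `v` of `x`
  obtain ⟨v, hxv, hyv⟩ := exists_other (P := P) (x := x) (y := y)
  have hvx := P.symm hxv
  have hEv : P.K x ⊓ P.K v = ⊥ := by
    obtain ⟨h, hh, hhv⟩ := Cfsg.Agent.H263.TW.trans_nb F hxy hxv
    rw [eq_bot_iff]
    rintro k ⟨hk1, hk2⟩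
    have h3 : h⁻¹ * k * h ∈ P.K x ⊓ P.K y := by
      refine ⟨?_, ?_⟩
      · have := K_conj' P (inv_fix (show h • x = x from hh)) hk1
        rwa [inv_inv] at this
      · have := K_conj P h⁻¹ hk2
        rwa [inv_inv, ← hhv, inv_smul_smul] at this
    rw [hE, mem_bot] at h3
    rw [mem_bot]
    calc k = h * (h⁻¹ * k * h) * h⁻¹ := by group
      _ = 1 := by rw [h3]; group
  have htv : P.tp v = P.tp y := by rw [P.tp_adj hxv, P.tp_adj hxy]
  have hcv : Fintype.card (NX P v x) = P.q (P.tp y) := by rw [← Nat.card_eq_fintype_card, card_NX hvx, htv]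
  -- the group `R`
  set R : Subgroup G := P.S x ⊓ P.S y ⊓ P.S v ⊓ P.S (w : V) with hR
  have hRv : ∀ k ∈ R, k • v = v := fun k hk => hk.1.2
  have hRx : ∀ k ∈ R, k • x = x := fun k hk => hk.1.1.1
  have hgR : g ∈ R := ⟨⟨⟨hgK.1, hgK.2 y hxy⟩, hgK.2 v hxv⟩, hw⟩
  set ρ := rho P v x R hRv hRx with hρ
  have htr : IsPretransitive ρ.range (NX P v x) := by
    refine ⟨fun u u' => ?_⟩
    obtain ⟨k, hk, hkw, hku⟩ := F.pair_trans (w := w) (x := y) (y := x) (z := v) (u := u) (w' := w) (u' := u')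
      hyx hvx hyv w.2.1 w.2.2 u.2.1 u.2.2 w.2.1 w.2.2 u'.2.1 u'.2.2
    have hkR : k ∈ R := ⟨⟨⟨hk.1.2, hk.1.1⟩, hk.2⟩, hkw⟩
    exact ⟨⟨ρ ⟨k, hkR⟩, ⟨k, hkR⟩, rfl⟩, Subtype.ext hku⟩
  set τ := ρ ⟨g, hgR⟩ with hτ
  have hτr : τ ^ r = 1 := by
    rw [hτ, ← map_pow]
    have h5 : (⟨g, hgR⟩ : R) ^ r = 1 := Subtype.ext hgr
    rw [h5, map_one]
  have hτ1 : τ ≠ 1 := by
    intro h3
    have h4 : (⟨g, hgR⟩ : R) ∈ ρ.ker := h3
    have h5 : g ∈ P.K x ⊓ P.K v := ⟨hgK, mem_ker_rho.1 h4⟩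
    rw [hEv, mem_bot] at h5
    exact hg1 h5
  obtain ⟨u, hu⟩ : ∃ u, τ u ≠ u := by
    by_contra h3
    push Not at h3
    exact hτ1 (Equiv.ext h3)
  have hτR : τ ∈ ρ.range := ⟨_, rfl⟩
  have hprim : IsPreprimitive ρ.range (NX P v x) :=
    Cfsg.Agent.H412.AltIndex.isPreprimitive_of_prime hr (⟨τ, hτR⟩ : ρ.range) (fun z => by
      have h3 : (⟨τ, hτR⟩ : ρ.range) ^ r = 1 := Subtype.ext hτr
      rw [h3, one_smul]) (x := u) hu (by rw [Nat.card_eq_fintype_card, hcv]; exact h1)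
  have hdvd : r ∣ Nat.card ρ.range := by
    have h3 : orderOf (⟨τ, hτR⟩ : ρ.range) = r := by
      apply orderOf_eq_prime
      · exact Subtype.ext hτr
      · intro h4
        exact hτ1 (congrArg Subtype.val h4)
    rw [← h3]
    exact orderOf_dvd_natCard _
  have halt := Cfsg.Agent.H202.TwoTransAlt.alt_le_of_dvd hr (by rw [hcv]; exact h1) (by rw [hcv]; omega)
    (by rw [hcv]; exact h2) ρ.range hprim hdvd
  -- `Q = K x ⊓ S w` covers the alternating group
  have hQR : P.K x ⊓ P.S (w : V) ≤ R := fun k hk => ⟨⟨⟨hk.1.1, hk.1.2 y hxy⟩, hk.1.2 v hxv⟩, hk.2⟩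
  have hQn : ((P.K x ⊓ P.S (w : V)).subgroupOf R).Normal := by
    constructor
    rintro ⟨k, hk⟩ hk' ⟨h, hh⟩
    refine ⟨K_conj' P (hRx h hh) hk'.1, ?_⟩
    exact (P.S (w : V)).mul_mem ((P.S (w : V)).mul_mem hh.2 hk'.2) ((P.S (w : V)).inv_mem hh.2)
  have hcov' := Cfsg.Agent.H508.AltFive.cover (X := NX P v x) (by omega) ρ halt ((P.K x ⊓ P.S (w : V)).subgroupOf R) (by
      intro h3
      have h4 : (⟨g, hgR⟩ : R) ∈ (P.K x ⊓ P.S (w : V)).subgroupOf R := ⟨hgK, hw⟩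
      exact hτ1 (h3 h4))
  have hle1 : Nat.card (alternatingGroup (NX P v x)) ≤ Nat.card ↥(P.K x ⊓ P.S (w : V)) := by
    refine (Nat.le_of_dvd Nat.card_pos (Subgroup.card_dvd_of_le hcov')).trans ?_
    refine (Nat.le_of_dvd Nat.card_pos (Subgroup.card_map_dvd _ _)).trans ?_
    rw [Nat.card_congr (Subgroup.subgroupOfEquivOfLe hQR).toEquiv]
  -- `|Q| ≤ (t - 1)!`
  have hle2 : Nat.card ↥(P.K x ⊓ P.S (w : V)) ≤ (P.q (P.tp y) - 1).factorial := by
    let ρ' := rho P y x (P.K x ⊓ P.S (w : V)) (fun k hk => hk.1.2 y hxy) (fun k hk => hk.1.1)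
    have hinj : Function.Injective ρ' := by
      rw [← MonoidHom.ker_eq_bot_iff, eq_bot_iff]
      rintro ⟨k, hk⟩ hk'
      have h3 : k ∈ P.K x ⊓ P.K y := ⟨hk.1, mem_ker_rho.1 hk'⟩
      rw [hE, mem_bot] at h3
      rw [mem_bot]
      exact Subtype.ext h3
    have h4 : Nat.card ↥(P.K x ⊓ P.S (w : V)) = Nat.card ρ'.range :=
      Nat.card_congr (MonoidHom.ofInjective hinj).toEquiv
    have h5 : ρ'.range ≤ fixingSubgroup (Equiv.Perm (NX P y x)) ({w} : Set (NX P y x)) := by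
      rintro _ ⟨⟨k, hk⟩, rfl⟩
      rw [mem_fixingSubgroup_iff]
      rintro w' rfl
      exact Subtype.ext hk.2
    rw [h4]
    refine (Nat.le_of_dvd Nat.card_pos (Subgroup.card_dvd_of_le h5)).trans ?_
    rw [Cfsg.Agent.S0713.card_fixingSubgroup_perm, Nat.card_eq_fintype_card, hcy, Set.ncard_singleton]
  have h3 := two_mul_card_alt (Ω := NX P v x) (by omega)
  rw [hcv] at h3
  obtain ⟨m, hm⟩ : ∃ m, P.q (P.tp y) = m + 1 := ⟨P.q (P.tp y) - 1, by omega⟩
  rw [hm, Nat.factorial_succ] at h3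
  rw [hm, Nat.add_sub_cancel] at hle2
  have h4 : (m + 1) * m.factorial ≤ 2 * m.factorial := by omega
  have h5 := Nat.le_of_mul_le_mul_right h4 (Nat.factorial_pos m)
  omega

end Cfsg.Agent.H115.Tits
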