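import Cfsg.Agent.H115.Tits.BE1
import Cfsg.Agent.H592.E4.Perm

/-!
# S3414, case (B): the piece `StBE1`, assembly (helper115)
-/

set_option autoImplicit false
set_option linter.unusedSectionVars false

namespace Cfsg.Agent.H115.Tits

open Cfsg.Agent.H873.Tits Cfsg.Agent.H506.Tits Subgroup MulAction

universe u v

/-- there is no 2-transitive group of order 210 and degree 7 -/
def StNo210 : Prop := ∀ {Ω : Type v} [Finite Ω] (L : Subgroup (Equiv.Perm Ω)), TwoTr L → Nat.card Ω = 7 →
  Nat.card L = 210 → False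

theorem num_be1 {n s t j : ℕ} (hn : n = 4 ∨ n = 6 ∨ n = 8) (hs : 2 ≤ s) (ht : 2 ≤ t) (h48 : n = 4 → t ≤ s ^ 2)
    (h4 : n = 4 → (s + t) ∣ 2 * s * t * (1 + s) * (1 + t))
    (h : t ^ (n / 2 - 1) * s ^ (n / 2 - 1) * j ∣ (t - 1).factorial) : 8 ≤ t ∨ (n = 4 ∧ t = 6 ∧ s = 4) := by
  by_contra hlt
  have ht' : t ∣ (t - 1).factorial := by
    refine Dvd.dvd.trans ?_ h
    refine Dvd.dvd.mul_right (Dvd.dvd.mul_right (dvd_pow_self t ?_) _) _
    omega
  have h6 : t = 6 := by
    have : t ≤ 7 := by omega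
    interval_cases t <;> revert ht' <;> decide
  subst h6
  have hf : (6 - 1).factorial = 120 := rfl
  rw [hf] at h
  rcases hn with rfl | rfl | rfl
  · have h1 : 6 ≤ s ^ 2 := h48 rfl
    have h2 : 6 * s ∣ 120 := by
      refine Dvd.dvd.trans ?_ h
      norm_num
    have h3 : s ≤ 20 := by
      have := Nat.le_of_dvd (by norm_num) h2
      omega
    have h5 := h4 rfl
    have h7 : s ≠ 4 := by omega
    clear hlt h48 h4 ht' hf h
    interval_cases s <;> revert h1 h2 h5 h7 <;> decide
  · have h2 : 6 ^ 2 ∣ 120 := (Dvd.intro _ rfl).trans ((Dvd.intro _ rfl).trans h)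
    revert h2; decide
  · have h2 : 6 ^ 3 ∣ 120 := (Dvd.intro _ rfl).trans ((Dvd.intro _ rfl).trans h)
    revert h2; decide

variable {G : Type u} [Group G] [Finite G] {V : Type v} [Finite V] [MulAction G V] {P : Pol G V} {b : Bool}

/-- `i_y = t^(m-1) s^(m-1) j`, `j ∣ s` -/
theorem idx_e1 (F : Facts P) (hB : CaseB P b) {x y y' : V} (hyx : P.adj y x) (hy : P.tp y = b) (hE : P.K x ⊓ P.K y = ⊥)
    (hopp : P.Opp y y') : ∃ j, j ∣ P.q (!b) ∧
      P.idx y y' = P.q b ^ (P.n / 2 - 1) * P.q (!b) ^ (P.n / 2 - 1) * j := by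
  have hn := P.hn
  obtain ⟨w, hxw, hyw⟩ := exists_other (P := P) (x := x) (y := y)
  obtain ⟨d, ⟨j, hj⟩, hK⟩ := Cfsg.Agent.H263.TW.caseB_card_K F hB hy hyx hxw hyw.symm
  rw [← Cfsg.Agent.H263.TW.EB_eq hB hy (P.symm hyx), hE, Subgroup.card_bot, one_mul] at hK
  have h1 := Cfsg.Agent.H263.TW.caseB_idx F hB hy hopp
  refine ⟨j, Dvd.intro_left d hj.symm, ?_⟩
  have h2 : P.q (!b) ^ (P.n / 2) = P.q (!b) ^ (P.n / 2 - 1) * (d * j) := by
    rw [← hj, ← pow_succ, Nat.sub_add_cancel (by omega)]
  rw [hK, h2] at h1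
  have hd : 0 < d := by
    rcases Nat.eq_zero_or_pos d with h | h
    · rw [h, zero_mul] at hj
      have := P.two_le (!b)
      omega
    · exact h
  apply Nat.eq_of_mul_eq_mul_right hd
  rw [h1]
  ring

/-- **`StBE1`** -/
theorem st_be1_of (hTab : StTabSq.{v}) (hNum : StPslNum.{v}) (hSub : StPslSub3.{v}) (h210 : StNo210.{v}) :
    StBE1.{u, v} := by
  intro G _ _ V _ _ P F N b hB x y hxy hy hne hna hE
  have hyx := P.symm hxy
  obtain ⟨z, hyz, hxz⟩ := exists_other (P := P) (x := y) (y := x)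
  obtain ⟨y', hopp⟩ := F.exists_opp y
  have hn := P.hn
  have hs := P.two_le (!b)
  have ht := P.two_le b
  obtain ⟨j, hj, hidx⟩ := idx_e1 F hB hyx hy hE hopp
  have hdvd := idx_dvd_T2 F hopp hyx hyz hxz
  have htT : P.q b ∣ P.T2 y x z := by
    refine Dvd.dvd.trans ?_ hdvd
    rw [hidx, mul_assoc]
    exact Dvd.dvd.mul_right (dvd_pow_self _ (by omega)) _
  have hfac := T2_dvd_factorial hyx hyz hxz
  rw [hy] at hfac
  rcases hTab (P.L y) ⟨x, hyx⟩ ⟨z, hyz⟩ (twoTr_L F y) (three_le_nb P y) (fun h => hxz (congrArg Subtype.val h)) hna (by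
    rw [P.card_nb, Nat.add_sub_cancel, ← T2_eq hyx hyz, hy]
    exact htT) with hA | ⟨p, d, f, h⟩
  · have hdf := hdvd.trans hfac
    rw [hidx] at hdf
    rcases num_be1 hn hs ht (fun h => N.hig48 (Or.inl h) _) (fun h => by
        have h4 := N.fh4 h
        cases b with
        | true =>
          simp only [Bool.not_true] at *
          rw [show P.q false + P.q true = P.q true + P.q false by ring,
            show 2 * P.q false * P.q true * (1 + P.q false) * (1 + P.q true) =
              2 * P.q true * P.q false * (1 + P.q true) * (1 + P.q false) by ring]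
          exact h4
        | false => exact h4) hdf with h8 | ⟨hn4, ht6, hs4⟩
    · exact alt_e1 F hyx hne hE hA (by rw [hy]; exact h8)
    · -- `(s, t) = (4, 6)`
      classical
      have hfin := Cfsg.Agent.H263.TW.finite_nb P y
      have := Fintype.ofFinite {w : V // P.adj y w}
      have hcard : Nat.card {w : V // P.adj y w} = 7 := by rw [P.card_nb, hy, ht6]
      have hL := Cfsg.Agent.H592.E4.card_twoTr (twoTr_L F y) (a := (⟨x, hyx⟩ : {w : V // P.adj y w})) (b := ⟨z, hyz⟩)
        (fun h => hxz (congrArg Subtype.val h))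
      rw [← T2_eq hyx hyz, hcard] at hL
      have halt := two_mul_card_alt (Ω := {w : V // P.adj y w}) (by rw [← Nat.card_eq_fintype_card, hcard]; norm_num)
      rw [← Nat.card_eq_fintype_card, hcard, show (7 : ℕ).factorial = 5040 from rfl] at halt
      have hA' := Subgroup.card_dvd_of_le (alt_le_of hA)
      rw [hL] at hA'
      rw [show Nat.card (alternatingGroup {w : V // P.adj y w}) = 2520 by omega] at hA'
      rw [ht6] at hfac
      rw [show (6 - 1 : ℕ).factorial = 120 from rfl] at hfac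
      rw [ht6, hs4, hn4] at hidx
      rw [hs4] at hj
      norm_num at hidx hA'
      have hT : P.T2 y x z = 120 := by
        have h1 : 24 ∣ P.T2 y x z := (Dvd.intro _ hidx.symm).trans hdvd
        obtain ⟨k, hk⟩ := h1
        rw [hk] at hfac hA' ⊢
        have h2 : k ∣ 5 := by
          obtain ⟨l, hl⟩ := hfac
          exact ⟨l, by rw [mul_assoc] at hl; omega⟩
        rcases (Nat.dvd_prime (by norm_num)).1 h2 with rfl | rfl
        · norm_num at hA'
        · rfl
      have hj1 : j = 1 := by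
        rw [hidx, hT] at hdvd
        have h2 : j ∣ 5 := by
          obtain ⟨l, hl⟩ := hdvd
          exact ⟨l, by rw [mul_assoc] at hl; omega⟩
        rcases (Nat.dvd_prime (by norm_num)).1 h2 with rfl | rfl
        · rfl
        · norm_num at hj
      rw [hj1, mul_one] at hidx
      have h5 : Nat.card (P.L' y y') * P.idx y y' = Nat.card (P.L y) := by
        have h6 := Subgroup.card_mul_index ((P.L' y y').subgroupOf (P.L y))
        rw [Nat.card_congr (Subgroup.subgroupOfEquivOfLe (L'_le P y y')).toEquiv] at h6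
        exact h6
      rw [hidx, hL, hT] at h5
      exact h210 (P.L' y y') (twoTr_L' F hopp) hcard (by omega)
  · exact psl_sq hNum hSub F hB hy hyx hyz hxz hna htT h

end Cfsg.Agent.H115.Tits
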