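import Cfsg.Agent.H115.Tits.Kill
import Cfsg.Agent.H115.Tits.StmtsC
import Cfsg.Agent.H506.Tits.StmtsB
import Cfsg.Agent.H873.Tits.Bridge
import Cfsg.Agent.H263.TW.Chain
import Cfsg.Agent.H523.KA.Uni

/-!
# S3414, case (B): the groups of type `PSL_d`, `d ≥ 3` (helper115)

* `kill_kf` : `L' y` does not contain a non-trivial normal subgroup of `L y` if `L y` is not affine;
* `psl_sq` : `t ∤ T_y` for `L y` of type `PSL_d`;
* `st_bpsl : StPslSemi → StPslNum → StPslSub → StBPSL`.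
-/

set_option autoImplicit false
set_option linter.unusedSectionVars false

namespace Cfsg.Agent.H115.Tits

open Cfsg.Agent.H873.Tits Cfsg.Agent.H506.Tits Subgroup MulAction

universe u v

variable {G : Type u} [Group G] [Finite G] {V : Type v} [Finite V] [MulAction G V] {P : Pol G V} {b : Bool}

theorem three_le_nb (P : Pol G V) (y : V) : 3 ≤ Nat.card {w : V // P.adj y w} := by
  have h1 := P.card_nb y
  have h2 := P.two_le (P.tp y)
  omega

/-- `L' y` does not contain a non-trivial normal subgroup of `L y` if `L y` is not affine -/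
theorem kill_kf (F : Facts P) (hB : CaseB P b) {y y' : V} (hy : P.tp y = b) (hopp : P.Opp y y') (hna : ¬ Aff (P.L y))
    (X : Subgroup (Equiv.Perm {w : V // P.adj y w})) (hX : X ≤ P.L' y y') (hn : (X.subgroupOf (P.L y)).Normal)
    (hX1 : X ≠ ⊥) : False :=
  hna (Cfsg.Agent.H523.KA.Uni.st_kf (P.L y) X (twoTr_L F y) (three_le_nb P y) (hX.trans (L'_le P y y')) hn hX1
    fun _ _ hac _ hσ h1 h2 => kill F hB hy hopp X hX hn hac hσ h1 h2)

/-- PSL-SUB in the exceptional cases of PSL-NUM: the 2-transitive subgroups contain the socle -/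
def StPslSub3 : Prop := ∀ {Ω : Type v} [Finite Ω] (L L' : Subgroup (Equiv.Perm Ω)) (p d f : ℕ), TwoTr L → TwoTr L' → L' ≤ L →
  PSLType L p d f → ((d = 3 ∧ f = 1 ∧ ∃ k, p + 1 = 2 ^ k) ∨ (d = 3 ∧ f = 3 ∧ p = 2) ∨ (d = 7 ∧ f = 1 ∧ p = 2)) →
  ∃ X : Subgroup (Equiv.Perm Ω), X ≠ ⊥ ∧ X ≤ L' ∧ (X.subgroupOf L).Normal

/-- the exceptional groups of type `PSL_d` -/
theorem psl_exc (hSub : StPslSub3.{v}) (F : Facts P) (hB : CaseB P b) {y : V} (hy : P.tp y = b) (hna : ¬ Aff (P.L y))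
    {p d f : ℕ} (h : PSLType (P.L y) p d f)
    (h1 : (d = 3 ∧ f = 1 ∧ ∃ k, p + 1 = 2 ^ k) ∨ (d = 3 ∧ f = 3 ∧ p = 2) ∨ (d = 7 ∧ f = 1 ∧ p = 2)) : False := by
  obtain ⟨y', hopp⟩ := F.exists_opp y
  obtain ⟨X, hX1, hX, hn⟩ := hSub (P.L y) (P.L' y y') p d f (twoTr_L F y) (twoTr_L' F hopp) (L'_le P y y') h h1
  exact kill_kf F hB hy hopp hna X hX hn hX1

/-- `t ∤ T_y` for `L y` of type `PSL_d`, `d ≥ 3` -/
theorem psl_sq (hNum : StPslNum.{v}) (hSub : StPslSub3.{v}) (F : Facts P) (hB : CaseB P b) {x y z : V} (hy : P.tp y = b)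
    (hx : P.adj y x) (hz : P.adj y z) (hxz : x ≠ z) (hna : ¬ Aff (P.L y)) (hT : P.q b ∣ P.T2 y x z) {p d f : ℕ}
    (h : PSLType (P.L y) p d f) : False := by
  rcases hNum (P.L y) p d f ⟨x, hx⟩ ⟨z, hz⟩ (twoTr_L F y) (fun h => hxz (congrArg Subtype.val h)) h with
    ⟨r, hr, hrp, h1, h2⟩ | h1
  · apply h2
    rw [← T2_eq hx hz]
    refine Dvd.dvd.trans ?_ hT
    rwa [P.card_nb, hy, Nat.add_sub_cancel] at h1
  · exact psl_exc hSub F hB hy hna h h1

/-- **`StBPSL`** -/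
theorem st_bpsl (hSemi : StPslSemi.{v}) (hNum : StPslNum.{v}) (hSub : StPslSub3.{v}) : StBPSL.{u, v} := by
  intro G _ _ V _ _ P F N b hB x y hxy hy hne hna hE p d f h a c Q hLQ
  obtain ⟨z, hyz, hxz⟩ := exists_other (P := P) (x := y) (y := x)
  have hyx := P.symm hxy
  rcases hNum (P.L y) p d f ⟨x, hyx⟩ ⟨z, hyz⟩ (twoTr_L F y) (fun h => hxz (congrArg Subtype.val h)) h with
    ⟨r, hr, hrp, h1, h2⟩ | h1
  · rw [← T2_eq hyx hyz] at h2
    rw [P.card_nb, hy, Nat.add_sub_cancel] at h1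
    obtain ⟨-, -, M, hM, hMs, hMr, hMc⟩ := Cfsg.Agent.H263.TW.chain F hB hr hyx hyz hxz hy h2
    have h3 := hSemi (P.L y) p d f (twoTr_L F y) h ⟨x, hyx⟩ M hM hMs hMr
    have h4 : r ∣ Nat.card M := by
      have h5 : (Nat.card M).factorization r ≠ 0 := by
        rw [hMc]
        have h6 : P.q b ≠ 0 := by have := P.two_le b; omega
        have := (hr.dvd_iff_one_le_factorization h6).1 h1
        omega
      exact Nat.dvd_of_factorization_pos h5
    have := Fact.mk hr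
    obtain ⟨g, hg⟩ := exists_prime_orderOf_dvd_card' r h4
    obtain ⟨k, hk⟩ := h3 g
    have h5 := orderOf_dvd_of_pow_eq_one hk
    rw [hg] at h5
    exact hrp ((Nat.prime_dvd_prime_iff_eq hr h.2.2.1).1 (hr.dvd_of_dvd_pow h5))
  · exact psl_exc hSub F hB hy hna h h1

end Cfsg.Agent.H115.Tits
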