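import Cfsg.Agent.H163.PG.Ord

/-!
# S3414: numerical lemmas for the table `TabSq` (helper115)

`s ^ 2 (s + 1)` does not divide `|Aut T|` for the socle `T` of a 2-transitive group of degree `s + 1`.
-/

set_option autoImplicit false

namespace Cfsg.Agent.H115.Tits

open Finset Cfsg.Agent.H163.PG

theorem lt_pow_self' {p f : ℕ} (hp : 2 ≤ p) : f < p ^ f := Nat.lt_pow_self (by omega)

/-- `q - 1` and `q + 1` are prime to `q` -/
theorem coprime_pred {q : ℕ} (k : ℕ) (hk : 1 ≤ k) (hq : 2 ≤ q) : q.Coprime (q ^ k - 1) := by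
  have h1 : q ∣ q ^ k := dvd_pow_self q (by omega)
  have h2 : 1 ≤ q ^ k := Nat.one_le_pow _ _ (by omega)
  rw [Nat.coprime_iff_gcd_eq_one, ← Nat.dvd_one]
  have h3 := Nat.gcd_dvd_right q (q ^ k - 1)
  have h4 := (Nat.gcd_dvd_left q (q ^ k - 1)).trans h1
  exact (Nat.dvd_sub_iff_right h2 h4).1 h3

theorem coprime_succ {q : ℕ} (k : ℕ) (hk : 1 ≤ k) : q.Coprime (q ^ k + 1) := by
  have h1 : q ∣ q ^ k := dvd_pow_self q (by omega)
  rw [Nat.coprime_iff_gcd_eq_one, ← Nat.dvd_one]
  have h3 := Nat.gcd_dvd_right q (q ^ k + 1)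
  have h4 := (Nat.gcd_dvd_left q (q ^ k + 1)).trans h1
  exact (Nat.dvd_add_right h4).1 h3

/-- `PSL₂(q)`, `s = q` -/
theorem num_psl2 {p f q : ℕ} (hp : 2 ≤ p) (hf : 1 ≤ f) (hq : q = p ^ f)
    (h : (q + 1) * (q * q) ∣ q * (q ^ 2 - 1) * f) : False := by
  have hq2 : 2 ≤ q := by
    rw [hq]
    calc 2 ≤ p := hp
      _ = p ^ 1 := (pow_one p).symm
      _ ≤ p ^ f := Nat.pow_le_pow_right (by omega) hf
  have h1 : q * q ∣ q * ((q ^ 2 - 1) * f) := by
    rw [← mul_assoc]
    exact (Dvd.intro_left _ rfl).trans h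
  have h2 : q ∣ (q ^ 2 - 1) * f := Nat.dvd_of_mul_dvd_mul_left (by omega) h1
  have h3 : q ∣ f := (coprime_pred 2 (by norm_num) hq2).dvd_of_dvd_mul_left h2
  have h4 := Nat.le_of_dvd hf h3
  have h5 := lt_pow_self' (f := f) hp
  omega

/-- `PSU₃(q)`, `s = q³` -/
theorem num_psu {p f q : ℕ} (hp : 2 ≤ p) (hf : 1 ≤ f) (hq : q = p ^ f)
    (h : (q ^ 3 + 1) * (q ^ 3 * q ^ 3) ∣ q ^ 3 * ((q ^ 2 - 1) * (q ^ 3 + 1)) * (2 * f)) : False := by
  have hq2 : 2 ≤ q := by
    rw [hq]
    calc 2 ≤ p := hp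
      _ = p ^ 1 := (pow_one p).symm
      _ ≤ p ^ f := Nat.pow_le_pow_right (by omega) hf
  have h0 : 0 < q ^ 3 := by positivity
  have h1 : q ^ 3 * q ^ 3 ∣ q ^ 3 * ((q ^ 2 - 1) * (q ^ 3 + 1) * (2 * f)) := by
    rw [← mul_assoc (q ^ 3) ((q ^ 2 - 1) * (q ^ 3 + 1)) (2 * f)]
    exact (Dvd.intro_left _ rfl).trans h
  have h2 : q ^ 3 ∣ (q ^ 2 - 1) * (q ^ 3 + 1) * (2 * f) := Nat.dvd_of_mul_dvd_mul_left h0 h1
  have h3 : q ^ 3 ∣ 2 * f := by
    refine Nat.Coprime.dvd_of_dvd_mul_left ?_ h2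
    exact Nat.Coprime.mul_right ((coprime_pred 2 (by norm_num) hq2).pow_left 3)
      ((coprime_succ 3 (by norm_num)).pow_left 3)
  have h4 := Nat.le_of_dvd (by omega) h3
  have h5 := lt_pow_self' (f := f) hp
  have h6 : 2 * q ≤ q ^ 3 := by nlinarith [Nat.mul_le_mul hq2 hq2]
  omega

/-- `Sz(q)`, `s = q²` -/
theorem num_sz {m : ℕ} (hm : 1 ≤ m) {q : ℕ} (hq : q = 2 ^ (2 * m + 1))
    (h : (q ^ 2 + 1) * (q ^ 2 * q ^ 2) ∣ q ^ 2 * (q - 1) * (q ^ 2 + 1) * (2 * m + 1)) : False := by
  have hq2 : 2 ≤ q := by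
    rw [hq]
    calc 2 = 2 ^ 1 := rfl
      _ ≤ 2 ^ (2 * m + 1) := Nat.pow_le_pow_right (by norm_num) (by omega)
  have h0 : 0 < q ^ 2 := by positivity
  have h1 : q ^ 2 * q ^ 2 ∣ q ^ 2 * ((q - 1) * (q ^ 2 + 1) * (2 * m + 1)) := by
    have e : q ^ 2 * ((q - 1) * (q ^ 2 + 1) * (2 * m + 1)) = q ^ 2 * (q - 1) * (q ^ 2 + 1) * (2 * m + 1) := by ring
    rw [e]
    exact (Dvd.intro_left _ rfl).trans h
  have h2 : q ^ 2 ∣ (q - 1) * (q ^ 2 + 1) * (2 * m + 1) := Nat.dvd_of_mul_dvd_mul_left h0 h1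
  have hc := coprime_pred (q := q) 1 le_rfl hq2
  rw [pow_one] at hc
  have h3 : q ^ 2 ∣ 2 * m + 1 := by
    refine Nat.Coprime.dvd_of_dvd_mul_left ?_ h2
    exact Nat.Coprime.mul_right (hc.pow_left 2) ((coprime_succ 2 (by norm_num)).pow_left 2)
  have h4 := Nat.le_of_dvd (by omega) h3
  have h5 := lt_pow_self' (p := 2) (f := 2 * m + 1) le_rfl
  have h6 : q ≤ q ^ 2 := Nat.le_self_pow (by norm_num) q
  omega

/-- `²G₂(q)`, `s = q³` -/
theorem num_ree {m : ℕ} (hm : 1 ≤ m) {q : ℕ} (hq : q = 3 ^ (2 * m + 1))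
    (h : (q ^ 3 + 1) * (q ^ 3 * q ^ 3) ∣ q ^ 3 * (q - 1) * (q ^ 3 + 1) * (2 * m + 1)) : False := by
  have hq2 : 2 ≤ q := by
    rw [hq]
    calc 2 ≤ 3 ^ 1 := by norm_num
      _ ≤ 3 ^ (2 * m + 1) := Nat.pow_le_pow_right (by norm_num) (by omega)
  have h0 : 0 < q ^ 3 := by positivity
  have h1 : q ^ 3 * q ^ 3 ∣ q ^ 3 * ((q - 1) * (q ^ 3 + 1) * (2 * m + 1)) := by
    have e : q ^ 3 * ((q - 1) * (q ^ 3 + 1) * (2 * m + 1)) = q ^ 3 * (q - 1) * (q ^ 3 + 1) * (2 * m + 1) := by ring
    rw [e]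
    exact (Dvd.intro_left _ rfl).trans h
  have h2 : q ^ 3 ∣ (q - 1) * (q ^ 3 + 1) * (2 * m + 1) := Nat.dvd_of_mul_dvd_mul_left h0 h1
  have hc := coprime_pred (q := q) 1 le_rfl hq2
  rw [pow_one] at hc
  have h3 : q ^ 3 ∣ 2 * m + 1 := by
    refine Nat.Coprime.dvd_of_dvd_mul_left ?_ h2
    exact Nat.Coprime.mul_right (hc.pow_left 3) ((coprime_succ 3 (by norm_num)).pow_left 3)
  have h4 := Nat.le_of_dvd (by omega) h3
  have h5 := lt_pow_self' (p := 3) (f := 2 * m + 1) (by norm_num)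
  have h6 : q ≤ q ^ 3 := Nat.le_self_pow (by norm_num) q
  omega

/-- a prime `r` with `v_r(s) = v_r(X) ≥ 1`, `v_r(N) ≤ v_r(X)`: `s² ∤ N` -/
theorem not_sq_dvd {r s N M : ℕ} (hr : r.Prime) (hs : r ∣ s) (hN : N ≠ 0) (h : s * s ∣ N)
    (hv : N.factorization r ≤ M.factorization r) (hM : M.factorization r ≤ s.factorization r) : False := by
  have hs0 : s ≠ 0 := by
    rintro rfl
    rw [mul_zero, zero_dvd_iff] at h
    exact hN h
  have h1 : (s * s).factorization r ≤ N.factorization r := (Nat.factorization_le_iff_dvd (mul_ne_zero hs0 hs0) hN).2 h r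
  rw [Nat.factorization_mul hs0 hs0, Finsupp.add_apply] at h1
  have h2 : 1 ≤ s.factorization r := (hr.dvd_iff_one_le_factorization hs0).1 hs
  omega

/-- the valuation of a product, all but one factor of which are prime to `r` -/
theorem factorization_prod_le {r : ℕ} {k j : ℕ} (a : ℕ → ℕ) (h0 : ∀ i, a i ≠ 0)
    (h : ∀ i ∈ range k, i ≠ j → ¬ r ∣ a i) : (∏ i ∈ range k, a i).factorization r ≤ (a j).factorization r := by
  rw [Nat.factorization_prod fun i _ => h0 i, Finsupp.finsetSum_apply]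
  by_cases hj : j ∈ range k
  · rw [← Finset.add_sum_erase _ _ hj]
    have : ∑ i ∈ (range k).erase j, (a i).factorization r = 0 := by
      apply Finset.sum_eq_zero
      intro i hi
      rw [Finset.mem_erase] at hi
      exact Nat.factorization_eq_zero_of_not_dvd (h i hi.2 hi.1)
    rw [this, add_zero]
  · have : ∑ i ∈ range k, (a i).factorization r = 0 := by
      apply Finset.sum_eq_zero
      intro i hi
      exact Nat.factorization_eq_zero_of_not_dvd (h i hi (fun h' => hj (h' ▸ hi)))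
    rw [this]
    exact Nat.zero_le _

/-- `PSL_d(q)`, `d ≥ 3` -/
theorem num_psl {p f d q s : ℕ} (hp : p.Prime) (hf : 1 ≤ f) (hq : q = p ^ f) (hd : 3 ≤ d)
    (hs : (s + 1) * (q - 1) = q ^ d - 1)
    (h : (s + 1) * (s * s) ∣ 2 * f * (q ^ (d * (d - 1) / 2) * ∏ i ∈ range (d - 1), (q ^ (i + 2) - 1))) :
    (q = 3 ∧ d = 3) ∨ (q = 7 ∧ d = 3) ∨ (q = 2 ∧ d = 7) := by
  have hp2 := hp.two_le
  have hq2 : 2 ≤ q := by
    rw [hq]
    calc 2 ≤ p := hp2
      _ = p ^ 1 := (pow_one p).symm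
      _ ≤ p ^ f := Nat.pow_le_pow_right (by omega) hf
  have hpow : ∀ k, 1 ≤ k → 2 ≤ q ^ k := fun k hk =>
    hq2.trans (Nat.le_self_pow (by omega) q)
  have hsq : s * (q - 1) = q * (q ^ (d - 1) - 1) := by
    have h1 : q * q ^ (d - 1) = q ^ d := by rw [← pow_succ', Nat.sub_add_cancel (by omega)]
    have h2 := hpow d (by omega)
    have h3 := hpow (d - 1) (by omega)
    have h4 : q * (q ^ (d - 1) - 1) = q ^ d - q := by rw [Nat.mul_sub, h1, mul_one]
    rw [h4]
    rw [add_mul, one_mul] at hs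
    omega
  have hs0 : s ≠ 0 := by
    rintro rfl
    have h3 := hpow (d - 1) (by omega)
    rw [zero_mul] at hsq
    have : 0 < q * (q ^ (d - 1) - 1) := Nat.mul_pos (by omega) (by omega)
    omega
  have hss : s * s ∣ 2 * f * (q ^ (d * (d - 1) / 2) * ∏ i ∈ range (d - 1), (q ^ (i + 2) - 1)) :=
    (Dvd.intro_left _ rfl).trans h
  have hprod0 : ∀ i, q ^ (i + 2) - 1 ≠ 0 := fun i => by
    have := hpow (i + 2) (by omega)
    omega
  have hN0 : 2 * f * (q ^ (d * (d - 1) / 2) * ∏ i ∈ range (d - 1), (q ^ (i + 2) - 1)) ≠ 0 :=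
    mul_ne_zero (by omega) (mul_ne_zero (pow_ne_zero _ (by omega)) (Finset.prod_ne_zero_iff.2 fun i _ => hprod0 i))
  -- the case with a primitive prime divisor
  by_cases hr : ∃ r, Ppd p (f * (d - 1)) r
  · exfalso
    obtain ⟨r, hr⟩ := hr
    have hfd : 2 ≤ f * (d - 1) := le_trans (by omega) (Nat.le_mul_of_pos_left (d - 1) hf)
    have hrq : ¬ r ∣ q := by
      rw [hq]
      exact fun h' => hr.not_dvd (by omega) (hr.prime.dvd_of_dvd_pow h')
    have hiff : ∀ k, r ∣ q ^ k - 1 ↔ (d - 1) ∣ k := by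
      intro k
      rw [hq, ← pow_mul, hr.dvd_iff (by omega)]
      exact Nat.mul_dvd_mul_iff_left hf
    have h1 : r ∣ q ^ (d - 1) - 1 := (hiff _).2 dvd_rfl
    have hq1 : ¬ r ∣ q - 1 := by
      have := (hiff 1).not.2 (fun h' => by
        have := Nat.le_of_dvd one_pos h'
        omega)
      rwa [pow_one] at this
    have h2 : s.factorization r = (q ^ (d - 1) - 1).factorization r := by
      have h3 := congrArg (fun n => Nat.factorization n r) hsq
      have h4 := hpow (d - 1) (by omega)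
      rw [Nat.factorization_mul hs0 (by omega), Nat.factorization_mul (by omega) (by omega), Finsupp.add_apply,
        Finsupp.add_apply, Nat.factorization_eq_zero_of_not_dvd hq1, Nat.factorization_eq_zero_of_not_dvd hrq] at h3
      omega
    have hrs : r ∣ s := by
      have h3 : r ∣ s * (q - 1) := by
        rw [hsq]
        exact h1.mul_left _
      exact (hr.prime.dvd_mul.1 h3).resolve_right hq1
    refine not_sq_dvd (M := q ^ (d - 1) - 1) hr.prime hrs hN0 hss ?_ h2.ge
    have hr2 : ¬ r ∣ 2 * f := by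
      intro h'
      rcases hr.prime.dvd_mul.1 h' with h' | h'
      · exact hr.ne_two hfd ((Nat.prime_dvd_prime_iff_eq hr.prime Nat.prime_two).1 h')
      · exact hr.not_dvd_mul (Nat.le_mul_of_pos_right f (by omega)) hf h'
    rw [Nat.factorization_mul (by omega)
      (mul_ne_zero (pow_ne_zero _ (by omega)) (Finset.prod_ne_zero_iff.2 fun i _ => hprod0 i)),
      Nat.factorization_mul (pow_ne_zero _ (by omega)) (Finset.prod_ne_zero_iff.2 fun i _ => hprod0 i),
      Finsupp.add_apply, Finsupp.add_apply, Nat.factorization_eq_zero_of_not_dvd hr2,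
      Nat.factorization_eq_zero_of_not_dvd (fun h' => hrq (hr.prime.dvd_of_dvd_pow h')), zero_add, zero_add]
    have h5 := factorization_prod_le (r := r) (k := d - 1) (j := d - 3) (fun i => q ^ (i + 2) - 1) hprod0 (by
      intro i hi hij h'
      rw [hiff] at h'
      rw [Finset.mem_range] at hi
      obtain ⟨c, hc⟩ := h'
      have hc0 : c ≠ 0 := by
        rintro rfl
        omega
      have hc1 : c = 1 := by
        by_contra hc1
        have : (d - 1) * 2 ≤ (d - 1) * c := Nat.mul_le_mul_left _ (by omega)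
        omega
      subst hc1
      omega)
    rw [show d - 3 + 2 = d - 1 by omega] at h5
    exact h5
  · -- the exceptions
    by_cases h3 : 3 ≤ f * (d - 1)
    · have h6 : p = 2 ∧ f * (d - 1) = 6 := by
        by_contra h6
        exact hr (Ppd.exists hp2 h3 h6)
      obtain ⟨rfl, h6⟩ := h6
      have hd6 : d - 1 ∣ 6 := Dvd.intro_left _ h6
      have hd7 : d - 1 ≤ 6 := Nat.le_of_dvd (by norm_num) hd6
      have hd4 : d - 1 = 2 ∨ d - 1 = 3 ∨ d - 1 = 6 := by
        have h7 : 2 ≤ d - 1 := by omega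
        generalize d - 1 = e at *
        interval_cases e <;> simp_all
      rcases hd4 with hd4 | hd4 | hd4
      · exfalso
        have hf3 : f = 3 := by rw [hd4] at h6; omega
        have hd' : d = 3 := by omega
        subst hf3 hd' hq
        have hs72 : s = 72 := by norm_num at hsq; omega
        subst hs72
        revert h
        simp only [Finset.prod_range_succ, Finset.prod_range_zero]
        norm_num
      · exfalso
        have hf3 : f = 2 := by rw [hd4] at h6; omega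
        have hd' : d = 4 := by omega
        subst hf3 hd' hq
        have hs72 : s = 84 := by norm_num at hsq; omega
        subst hs72
        revert h
        simp only [Finset.prod_range_succ, Finset.prod_range_zero]
        norm_num
      · right
        right
        have hf3 : f = 1 := by rw [hd4] at h6; omega
        subst hf3
        exact ⟨by rw [hq, pow_one], by omega⟩
    · have hfd : f * (d - 1) = 2 := by
        have := Nat.le_mul_of_pos_left (d - 1) hf
        omega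
      have hd' : d = 3 := by
        have := Nat.le_mul_of_pos_left (d - 1) hf
        omega
      subst hd'
      have hf1 : f = 1 := by omega
      subst hf1
      rw [pow_one] at hq
      subst hq
      have hm : ∃ k, q + 1 = 2 ^ k := by
        by_contra hm
        exact hr (Ppd.exists_two hp2 hm)
      obtain ⟨k, hk⟩ := hm
      have hs' : s = q * (q + 1) := by
        have h1 : q * (q ^ 2 - 1) = q * (q + 1) * (q - 1) := by
          have := Nat.sq_sub_sq q 1
          rw [one_pow] at this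
          rw [this]
          ring
        rw [show 3 - 1 = 2 by norm_num, h1] at hsq
        exact Nat.eq_of_mul_eq_mul_right (by omega) hsq
      -- the `2`-part
      have hk2 : 2 ≤ k := by
        by_contra hk2
        have : k = 0 ∨ k = 1 := by omega
        rcases this with rfl | rfl <;> omega
      obtain ⟨j, rfl⟩ := Nat.exists_eq_add_of_le' hk2
      obtain ⟨u, hu⟩ : ∃ u, u = 2 ^ j := ⟨_, rfl⟩
      have hq4 : q = 4 * u - 1 := by
        rw [hu]
        have : 2 ^ (j + 2) = 4 * 2 ^ j := by ring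
        omega
      have hu1 : 1 ≤ u := by rw [hu]; exact Nat.one_le_two_pow
      have h1 : (q + 1) * (q + 1) ∣ 2 * 1 * (q ^ (3 * (3 - 1) / 2) * ∏ i ∈ range (3 - 1), (q ^ (i + 2) - 1)) := by
        refine dvd_trans ?_ hss
        rw [hs']
        exact ⟨q * q, by ring⟩
      have h2 : 2 * 1 * (q ^ (3 * (3 - 1) / 2) * ∏ i ∈ range (3 - 1), (q ^ (i + 2) - 1)) =
          (q + 1) * (8 * (q ^ 3 * ((2 * u - 1) ^ 2 * (q ^ 2 + q + 1)))) := by
        simp only [show 3 * (3 - 1) / 2 = 3 by norm_num, show 3 - 1 = 2 by norm_num, Finset.prod_range_succ,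
          Finset.prod_range_zero, one_mul, zero_add]
        have e1 : q ^ 2 - 1 = (q + 1) * (2 * (2 * u - 1)) := by
          have h3 : 1 ≤ q ^ 2 := Nat.one_le_pow _ _ (by omega)
          have h4 : 1 ≤ 2 * u := by omega
          have h5 : 1 ≤ 4 * u := by omega
          rw [hq4]
          zify [h5, h4]
          rw [Nat.cast_sub (by rw [← hq4]; exact h3)]
          push_cast
          rw [Nat.cast_sub h5]
          push_cast
          ring
        have e2 : q ^ (1 + 2) - 1 = (2 * (2 * u - 1)) * (q ^ 2 + q + 1) := by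
          have h3 : 1 ≤ q ^ 3 := Nat.one_le_pow _ _ (by omega)
          have h4 : 1 ≤ 2 * u := by omega
          have h5 : 1 ≤ 4 * u := by omega
          rw [hq4]
          zify [h5, h4]
          rw [Nat.cast_sub (by rw [← hq4]; exact h3)]
          push_cast
          rw [Nat.cast_sub h5]
          push_cast
          ring
        rw [e1, e2]
        ring
      rw [h2] at h1
      have h3 := Nat.dvd_of_mul_dvd_mul_left (by omega) h1
      have hodd : Nat.Coprime (q + 1) (q ^ 3 * ((2 * u - 1) ^ 2 * (q ^ 2 + q + 1))) := by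
        rw [hk]
        refine Nat.Coprime.pow_left _ ?_
        rw [Nat.coprime_two_left]
        have hqo : Odd q := ⟨2 * u - 1, by omega⟩
        refine (hqo.pow).mul (Odd.mul (Odd.pow ⟨u - 1, by omega⟩) ?_)
        have h5 : Odd (q ^ 2) := hqo.pow
        exact (h5.add_odd hqo).add_one
      have h4 : q + 1 ∣ 8 := hodd.dvd_of_dvd_mul_right h3
      have h5 : q + 1 ≤ 8 := Nat.le_of_dvd (by norm_num) h4
      have h6 : 4 ∣ q + 1 := ⟨u, by omega⟩
      have h7 : q = 3 ∨ q = 7 := by omega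
      rcases h7 with h7 | h7
      · exact Or.inl ⟨h7, rfl⟩
      · exact Or.inr (Or.inl ⟨h7, rfl⟩)

end Cfsg.Agent.H115.Tits
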